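import Groth.Agent.StalkHomLib.StalkExt
import Groth.Agent.DCohLib.TensorExact
import Groth.Prelude.Def_ExtSupp

/-!
# The internal Hom in the first variable
-/

set_option autoImplicit false
set_option backward.isDefEq.respectTransparency false
set_option linter.style.haveILetI false
universe u

open CategoryTheory Limits Opposite TopologicalSpace AlgebraicGeometry
open Groth.Agent.PullbackMod Groth.Agent.DCohLib Groth.Agent.StalkHomLib
open scoped TensorProduct

noncomputable section

namespace Groth.Agent.ExtShLib

variable {X : Scheme.{u}} {F F' : X.Modules} [ModSite.HasSheafHom (O := X.sheaf) F]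
  [ModSite.HasSheafHom (O := X.sheaf) F']

/-- Contravariance of the internal Hom. -/
abbrev hFMap (g : F' ⟶ F) : hF F ⟶ hF F' := ExtSupp.sheafHomMap (O := X.sheaf) g

theorem theta_hFMap (g : F' ⟶ F) (N : X.Modules) (x : X) (z : ((hF F).obj N).presheaf.stalk x)
    (f : F'.presheaf.stalk x) :
    theta F' N x (stalkLin ((hFMap g).app N) x z) f = theta F N x z (stalkLin g x f) := by
  rw [theta_apply, theta_apply]
  have h : ((DCoh.tensorBi (X := X)).map ((hFMap g).app N)).app F' ≫ ev F' N =
      ((DCoh.tensorBi (X := X)).obj ((hF F).obj N)).map g ≫ ev F N :=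
    conjugateEquiv_counit (ModSite.sheafHomAdj (O := X.sheaf) F) (ModSite.sheafHomAdj (O := X.sheaf) F')
      ((ModSite.tensorBi X.sheaf).flip.map g) N
  have h2 := stalkTensor_natural_left x (N := F') ((hFMap g).app N) (z ⊗ₜ f)
  rw [LinearMap.rTensor_tmul] at h2
  have h3 := stalkTensor_natural_right x (M := (hF F).obj N) g (z ⊗ₜ f)
  rw [LinearMap.lTensor_tmul] at h3
  rw [← h2, ← LinearMap.comp_apply, ← stalkLin_comp, h, stalkLin_comp, LinearMap.comp_apply, h3]

/-- The complex of internal Homs of a short complex into a module. -/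
theorem shortExact_hom {S : ShortComplex X.Modules} [ModSite.HasSheafHom (O := X.sheaf) S.X₁]
    [ModSite.HasSheafHom (O := X.sheaf) S.X₂] [ModSite.HasSheafHom (O := X.sheaf) S.X₃]
    [IsLocallyNoetherian X] (hS : S.ShortExact) (h₁ : Coh.IsCoh S.X₁) (h₂ : Coh.IsCoh S.X₂)
    (h₃ : Coh.IsCoh S.X₃) (J : X.Modules) (hJ : Injective J) :
    ∃ w, (ShortComplex.mk ((hFMap S.g).app J) ((hFMap S.f).app J) w).ShortExact := by
  have hfg : ∀ (x : X) (f : S.X₁.presheaf.stalk x), stalkLin S.g x (stalkLin S.f x f) = 0 := fun x f => by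
    rw [← LinearMap.comp_apply, ← stalkLin_comp, S.zero]
    exact LinearMap.congr_fun ((eq_zero_iff_stalk (0 : S.X₁ ⟶ S.X₃)).1 rfl x) f
  have w : (hFMap S.g).app J ≫ (hFMap S.f).app J = 0 := (eq_zero_iff_stalk _).2 fun x =>
    LinearMap.ext fun z => (theta_bijective S.X₁ x h₁ J).1 (LinearMap.ext fun f => by
      rw [stalkLin_comp, LinearMap.comp_apply, theta_hFMap, theta_hFMap, hfg, map_zero, LinearMap.zero_apply,
        map_zero, LinearMap.zero_apply])
  refine ⟨w, (shortExact_iff_stkF _).2 fun x => ?_⟩
  have hx := (shortExact_iff_stkF S).1 hS x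
  have hinjx : Function.Injective (stalkLin S.f x) := hx.moduleCat_injective_f
  have hsurx : Function.Surjective (stalkLin S.g x) := hx.moduleCat_surjective_g
  have hexx : Function.Exact (stalkLin S.f x) (stalkLin S.g x) := by
    have := hx.exact
    rw [ShortComplex.moduleCat_exact_iff_range_eq_ker] at this
    exact LinearMap.exact_iff.2 this.symm
  haveI : Module.Injective (X.presheaf.stalk x) (J.presheaf.stalk x) := S11155.result J hJ x
  have t₁ := theta_bijective S.X₁ x h₁ J
  have t₂ := theta_bijective S.X₂ x h₂ J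
  have t₃ := theta_bijective S.X₃ x h₃ J
  exact
    { exact := by
        rw [ShortComplex.moduleCat_exact_iff]
        intro z hz
        have hz' : ∀ f, theta S.X₂ J x z (stalkLin S.f x f) = 0 := fun f =>
          (theta_hFMap S.f J x z f).symm.trans
            (((LinearMap.congr_fun ((theta S.X₁ J x).congr_arg hz) f).trans
              (LinearMap.congr_fun (map_zero (theta S.X₁ J x)) f)))
        obtain ⟨l, hl⟩ : ∃ l : S.X₃.presheaf.stalk x →ₗ[X.presheaf.stalk x] J.presheaf.stalk x,
            l ∘ₗ stalkLin S.g x = theta S.X₂ J x z := by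
          have hle : LinearMap.ker (stalkLin S.g x) ≤ LinearMap.ker (theta S.X₂ J x z) := by
            intro a ha
            obtain ⟨b, rfl⟩ := (hexx a).1 ha
            exact hz' b
          exact ⟨(Submodule.liftQ _ (theta S.X₂ J x z) hle).comp
            ((stalkLin S.g x).quotKerEquivOfSurjective hsurx).symm.toLinearMap,
            LinearMap.ext fun a => by
              show Submodule.liftQ _ _ hle (((stalkLin S.g x).quotKerEquivOfSurjective hsurx).symm (stalkLin S.g x a)) = _
              rw [← LinearMap.quotKerEquivOfSurjective_apply_mk (stalkLin S.g x) hsurx a,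
                LinearEquiv.symm_apply_apply, Submodule.liftQ_apply]⟩
        obtain ⟨y, hy⟩ := t₃.2 l
        refine ⟨y, t₂.1 (LinearMap.ext fun f => (theta_hFMap S.g J x y f).trans ?_)⟩
        rw [hy]
        exact LinearMap.congr_fun hl f
      mono_f := (ModuleCat.mono_iff_injective _).2 fun z z' hzz => t₃.1 (LinearMap.ext fun f => by
        obtain ⟨a, rfl⟩ := hsurx f
        exact (theta_hFMap S.g J x z a).symm.trans
          ((LinearMap.congr_fun ((theta S.X₂ J x).congr_arg hzz) a).trans (theta_hFMap S.g J x z' a)))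
      epi_g := (ModuleCat.epi_iff_surjective _).2 fun v => by
        obtain ⟨l, hl⟩ := Module.Injective.out (stalkLin S.f x) hinjx (theta S.X₁ J x v)
        obtain ⟨z, hz⟩ := t₂.2 l
        refine ⟨z, t₁.1 (LinearMap.ext fun f => (theta_hFMap S.f J x z f).trans ?_)⟩
        rw [hz]
        exact hl f }

end Groth.Agent.ExtShLib
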