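import Groth.Agent.ExtShLib.GammaAb
import Groth.Agent.ExtShLib.SeqF
import Groth.Agent.S12893

/-!
# Ext sheaves with supports below the depth
-/

set_option autoImplicit false
set_option backward.isDefEq.respectTransparency false
set_option linter.style.haveILetI false
universe u

open CategoryTheory Limits Opposite TopologicalSpace AlgebraicGeometry
open Groth.Agent.PullbackMod Groth.Agent.DCohLib Groth.Agent.StalkHomLib

noncomputable section

namespace Groth.Agent.ExtShLib

variable {X : Scheme.{u}}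

theorem restrict_map_eq_zero_iff (U : X.Opens) {A B : X.Modules} (φ : A ⟶ B) :
    (Scheme.Modules.restrictFunctor U.ι).map φ = 0 ↔ ∀ x ∈ U, stalkLin φ x = 0 := by
  rw [eq_zero_iff_stalk]
  have nat : ∀ (y : (U : Scheme.{u})) (z : ((Scheme.Modules.restrictFunctor U.ι).obj A).presheaf.stalk y),
      (Scheme.Modules.restrictStalkNatIso U.ι y).hom.app B (stalkLin ((Scheme.Modules.restrictFunctor U.ι).map φ) y z) =
        stalkLin φ (U.ι y) ((Scheme.Modules.restrictStalkNatIso U.ι y).hom.app A z) := fun y z =>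
    ConcreteCategory.congr_hom ((Scheme.Modules.restrictStalkNatIso U.ι y).hom.naturality φ) z
  refine ⟨fun h x hx => LinearMap.ext fun w => ?_, fun h y => LinearMap.ext fun z => ?_⟩
  · let e := Scheme.Modules.restrictStalkNatIso U.ι (⟨x, hx⟩ : U)
    have h1 := nat ⟨x, hx⟩ (e.inv.app A w)
    rw [h] at h1
    rw [show e.hom.app A (e.inv.app A w) = w from Iso.inv_hom_id_app_apply e A w] at h1
    exact h1.symm.trans (map_zero _)
  · apply (ConcreteCategory.bijective_of_isIso ((Scheme.Modules.restrictStalkNatIso U.ι y).hom.app B)).1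
    refine (nat y z).trans ?_
    rw [h (U.ι y) y.2]
    exact (map_zero _).symm

theorem comp_sectUnit_iff (U : X.Opens) {A B : X.Modules} (φ : A ⟶ B) :
    φ ≫ (ModSite.restrPushOverAdj X.sheaf U).unit.app B = 0 ↔ ∀ x ∈ U, stalkLin φ x = 0 := by
  haveI := (ModSite.restrPushOverAdj X.sheaf U).right_adjoint_additive
  exact (comp_unit_eq_zero_iff (ModSite.restrPushOverAdj X.sheaf U) φ).trans
    ((restr_map_eq_zero_iff U φ).trans (restrict_map_eq_zero_iff U φ))

theorem stalkLin_sectOnι (U : X.Opens) (B : X.Modules) (x : X) (hx : x ∈ U) :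
    stalkLin (show (ModSite.sectOn X.sheaf U : X.Modules ⥤ X.Modules).obj B ⟶ B from (ModSite.sectOnι X.sheaf U).app B) x = 0 :=
  (comp_sectUnit_iff U _).1 (kernel.condition _) x hx

section

variable {C : Type (u + 1)} [Category.{u} C] (U U' : X.Opens) (hUU' : U ≤ U') (H : C ⥤ X.Modules)
  (hH : ∀ (M : C) (x : X), x ∈ U' → x ∉ U → Subsingleton ((H.obj M).presheaf.stalk x))

include hH in
theorem sectOnι_enlarge (M : C) :
    (ModSite.sectOnι X.sheaf U).app (H.obj M) ≫ (ModSite.restrPushOverAdj X.sheaf U').unit.app (H.obj M) = 0 := by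
  let φ : (ModSite.sectOn X.sheaf U : X.Modules ⥤ X.Modules).obj (H.obj M) ⟶ H.obj M :=
    (ModSite.sectOnι X.sheaf U).app (H.obj M)
  refine (comp_sectUnit_iff U' φ).2 fun x hx => ?_
  by_cases hxU : x ∈ U
  · exact stalkLin_sectOnι U _ x hxU
  · haveI := hH M x hx hxU
    exact LinearMap.ext fun z => Subsingleton.elim _ _

include hUU' in
theorem sectOnι_shrink (M : C) :
    (ModSite.sectOnι X.sheaf U').app (H.obj M) ≫ (ModSite.restrPushOverAdj X.sheaf U).unit.app (H.obj M) = 0 :=
  let φ : (ModSite.sectOn X.sheaf U' : X.Modules ⥤ X.Modules).obj (H.obj M) ⟶ H.obj M :=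
    (ModSite.sectOnι X.sheaf U').app (H.obj M)
  (comp_sectUnit_iff U φ).2 fun x hx => stalkLin_sectOnι U' _ x (hUU' hx)

/-- Supports may be shrunk to the support of the sheaves considered. -/
def sectOnCongr : H ⋙ (ModSite.sectOn X.sheaf U : X.Modules ⥤ X.Modules) ≅
    H ⋙ (ModSite.sectOn X.sheaf U' : X.Modules ⥤ X.Modules) :=
  NatIso.ofComponents
    (fun M =>
      { hom := kernel.lift _ ((ModSite.sectOnι X.sheaf U).app (H.obj M)) (sectOnι_enlarge U U' H hH M)
        inv := kernel.lift _ ((ModSite.sectOnι X.sheaf U').app (H.obj M)) (sectOnι_shrink U U' hUU' H M)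
        hom_inv_id := by
          apply equalizer.hom_ext
          exact (Category.assoc _ _ _).trans ((congrArg (_ ≫ ·) (kernel.lift_ι _ _ _)).trans
            ((kernel.lift_ι _ _ _).trans (Category.id_comp _).symm))
        inv_hom_id := by
          apply equalizer.hom_ext
          exact (Category.assoc _ _ _).trans ((congrArg (_ ≫ ·) (kernel.lift_ι _ _ _)).trans
            ((kernel.lift_ι _ _ _).trans (Category.id_comp _).symm)) })
    fun {M N} f => by
      apply equalizer.hom_ext
      exact ((Category.assoc _ _ _).trans (congrArg (_ ≫ ·) (kernel.lift_ι _ _ _))).trans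
        (((ModSite.sectOnι X.sheaf U).naturality (H.map f)).trans
          (((Category.assoc _ _ _).trans (congrArg (_ ≫ ·) (kernel.lift_ι _ _ _))).trans
            ((Category.assoc _ _ _).symm.trans (congrArg (· ≫ H.map f) (kernel.lift_ι _ _ _)))).symm)

end

variable [IsLocallyNoetherian X] [HasInjectiveResolutions (ModSite.Mod X.sheaf)]

/-- Derived functors of `Hom(F, Γ_Z -)` vanish below the degree where local cohomology starts. -/
theorem isZero_of_HZsh (U : X.Opens) (F G : X.Modules) [ModSite.HasSheafHom (O := X.sheaf) F] (n : ℕ)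
    (h : ∀ q, q < n → IsZero (((ModSite.sectOn X.sheaf U : X.Modules ⥤ X.Modules).rightDerived q).obj G))
    (i : ℕ) (hi : i < n) :
    IsZero (((ModSite.sectOn X.sheaf U ⋙ ModSite.sheafHom (O := X.sheaf) F).rightDerived i).obj G) := by
  haveI : EnoughInjectives (ModSite.Mod X.sheaf) := SiteBase.enoughInjectives_sheafOfModules _
  let T := ModSite.sectOn X.sheaf U
  let S := ModSite.sheafHom (O := X.sheaf) F
  haveI : S.IsRightAdjoint := (ModSite.sheafHomAdj (O := X.sheaf) F).isRightAdjoint
  haveI : PreservesFiniteLimits S := inferInstance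
  have hT : ∀ I : ModSite.Mod X.sheaf, Injective I → SpSeqLib.IsAcyclicFor S (T.obj I) := fun I hI =>
    haveI := SiteBase.OpenQuot.injective_sectOn X.sheaf U I
    SpSeqLib.isAcyclicFor_of_injective S _
  obtain ⟨Z₀, hZ₀⟩ := HasZeroObject.zero (C := ModSite.Mod X.sheaf)
  let H : ℤ → ModSite.Mod X.sheaf := fun n => if 0 ≤ n then ((T ⋙ S).rightDerived n.toNat).obj G else Z₀
  let P : ℤ → ℤ → ModSite.Mod X.sheaf := fun p q => if 0 ≤ p ∧ 0 ≤ q then
    (S.rightDerived p.toNat).obj ((T.rightDerived q.toNat).obj G) else Z₀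
  obtain ⟨E, a, ha, -, hP⟩ := SpSeqLib.exists_grothendieck T S hT G (H := H) (P := P)
    (fun n => ⟨eqToIso (by simp [H])⟩) (fun n hn => by
      simp only [H]; rw [if_neg (by omega)]; exact hZ₀)
    (fun p q => ⟨eqToIso (by simp [P])⟩) (fun p q h => by
      simp only [P]; rw [if_neg (by omega)]; exact hZ₀)
  have h0 := isZero_abutment a (i : ℤ) (ha _) fun p => by
    refine IsZero.of_iso ?_ (hP p ((i : ℤ) - p)).some
    by_cases hpq : 0 ≤ p ∧ 0 ≤ (i : ℤ) - p
    · simp only [P, if_pos hpq]
      exact (S.rightDerived p.toNat).map_isZero (h _ (by omega))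
    · simp only [P, if_neg hpq]
      exact hZ₀
  simp only [H, if_pos (Int.natCast_nonneg i), Int.toNat_natCast] at h0
  exact h0

end Groth.Agent.ExtShLib
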