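import Groth.Agent.ExtShLib.Affine
import Groth.Agent.DCohLib.ExtTensor
import Groth.Agent.DCohLib.QCohHD
import Groth.Agent.ModTensor.Sheaf
import Groth.Agent.SiteBase.ModCoh
import Groth.Agent.SpSeqLib.DerivedComp
import Groth.Agent.ProjBundleLib.FTQuot

/-!
# Ext sheaves of coherent modules are quasi-coherent
-/

set_option autoImplicit false
set_option backward.isDefEq.respectTransparency false
set_option linter.style.haveILetI false
universe u

open CategoryTheory Limits Opposite TopologicalSpace AlgebraicGeometry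
open Groth.Agent.PullbackMod Groth.Agent.DCohLib Groth.Agent.CohBase Groth.Agent.StalkHomLib

noncomputable section

namespace Groth.Agent.ExtShLib

variable {X : Scheme.{u}} (V : X.Opens) (F : X.Modules) [ModSite.HasSheafHom (O := X.sheaf) F]
  [ModSite.HasSheafHom (O := (V : Scheme.{u}).sheaf) ((Scheme.Modules.restrictFunctor V.ι).obj F)]

/-- The left adjoints of the two composites. -/
def extTensorNatIso : (ModSite.tensorBi (V : Scheme.{u}).sheaf).flip.obj ((Scheme.Modules.restrictFunctor V.ι).obj F) ⋙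
    CxOX.extZero V.ι ≅ CxOX.extZero V.ι ⋙ ((ModSite.tensorBi X.sheaf).flip.obj F : X.Modules ⥤ X.Modules) :=
  NatIso.ofComponents
    (fun N => haveI := isIso_extTensorMap V N F; asIso (extTensorMap V N F))
    fun g => extTensorMap_natural_left V g F

/-- The internal Hom commutes with restriction to an open subscheme. -/
def restrictHFIso : hF F ⋙ Scheme.Modules.restrictFunctor V.ι ≅
    Scheme.Modules.restrictFunctor V.ι ⋙ hF ((Scheme.Modules.restrictFunctor V.ι).obj F) :=
  ((((CxOX.extZeroAdj V.ι).comp (ModSite.sheafHomAdj (O := X.sheaf) F)).ofNatIsoLeft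
    (extTensorNatIso V F).symm).rightAdjointUniq
    ((ModSite.sheafHomAdj (O := (V : Scheme.{u}).sheaf) ((Scheme.Modules.restrictFunctor V.ι).obj F)).comp
      (CxOX.extZeroAdj V.ι)))

theorem nonempty_restrict_extS [HasInjectiveResolutions (ModSite.Mod X.sheaf)]
    [HasInjectiveResolutions (ModSite.Mod (V : Scheme.{u}).sheaf)] (G : X.Modules) (i : ℕ) :
    Nonempty ((Scheme.Modules.restrictFunctor V.ι).obj (ExtVanLib.extS F G i) ≅
      ExtVanLib.extS ((Scheme.Modules.restrictFunctor V.ι).obj F) ((Scheme.Modules.restrictFunctor V.ι).obj G) i) := by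
  haveI : HasInjectiveResolutions X.Modules := ‹HasInjectiveResolutions (ModSite.Mod X.sheaf)›
  haveI : HasInjectiveResolutions (V : Scheme.{u}).Modules :=
    ‹HasInjectiveResolutions (ModSite.Mod (V : Scheme.{u}).sheaf)›
  haveI : (hF F).Additive := (ModSite.sheafHomAdj (O := X.sheaf) F).right_adjoint_additive
  haveI : (hF ((Scheme.Modules.restrictFunctor V.ι).obj F)).Additive :=
    (ModSite.sheafHomAdj (O := (V : Scheme.{u}).sheaf) ((Scheme.Modules.restrictFunctor V.ι).obj F)).right_adjoint_additive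
  exact ⟨((SpSeqLib.rightDerivedPostcompIso (hF F) (Scheme.Modules.restrictFunctor V.ι) i).symm ≪≫
    SpSeqLib.rightDerivedCongr (restrictHFIso V F) i ≪≫
    SpSeqLib.rightDerivedPrecompIso (Scheme.Modules.restrictFunctor V.ι)
      (fun I hI => LocZLib.GammaQCoh.injective_restrict V.ι I hI)
      (hF ((Scheme.Modules.restrictFunctor V.ι).obj F)) i).app G⟩

end Groth.Agent.ExtShLib

namespace Groth.Agent.ExtShLib

variable {X : Scheme.{u}} [IsLocallyNoetherian X] (F : X.Modules) [ModSite.HasSheafHom (O := X.sheaf) F]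
  [HasInjectiveResolutions (ModSite.Mod X.sheaf)]

omit [IsLocallyNoetherian X] in
theorem exists_affine_nhd (x : X) : ∃ V : X.Opens, IsAffineOpen V ∧ x ∈ V := by
  obtain ⟨_, ⟨V, hV, rfl⟩, hxV, -⟩ :=
    X.isBasis_affineOpens.exists_subset_of_mem_open (Set.mem_univ x) isOpen_univ
  exact ⟨V, hV, hxV⟩

theorem isQCoh_extS (hFc : Coh.IsCoh F) (G : X.Modules) [Coh.IsQCoh G] (i : ℕ) :
    Coh.IsQCoh (ExtVanLib.extS F G i) := by
  refine DCohLib.isQCoh_of_local fun x => ?_
  obtain ⟨V, hV, hxV⟩ := exists_affine_nhd x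
  haveI : IsAffine (V : Scheme.{u}) := hV
  haveI : EnoughInjectives (ModSite.Mod (V : Scheme.{u}).sheaf) := SiteBase.enoughInjectives_sheafOfModules _
  haveI : HasInjectiveResolutions (ModSite.Mod (V : Scheme.{u}).sheaf) := inferInstance
  haveI : Coh.IsQCoh ((Scheme.Modules.restrictFunctor V.ι).obj G) := inferInstance
  have hc : Coh.IsCoh ((Scheme.Modules.restrictFunctor V.ι).obj F) :=
    ProjBundleLib.isCoh_restrict_open hFc.1 hFc.2 V
  haveI := hc.1
  obtain ⟨e⟩ := nonempty_restrict_extS V F G i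
  exact ⟨V, hxV, DCohLib.isQCoh_of_iso' e.symm (isQCoh_extSh _ hc _ i)⟩

theorem isCoh_extS (hFc : Coh.IsCoh F) (G : X.Modules) (hG : Coh.IsCoh G) (i : ℕ) :
    Coh.IsCoh (ExtVanLib.extS F G i) := by
  refine DCohLib.isCoh_of_local fun x => ?_
  obtain ⟨V, hV, hxV⟩ := exists_affine_nhd x
  haveI : IsAffine (V : Scheme.{u}) := hV
  haveI : EnoughInjectives (ModSite.Mod (V : Scheme.{u}).sheaf) := SiteBase.enoughInjectives_sheafOfModules _
  haveI : HasInjectiveResolutions (ModSite.Mod (V : Scheme.{u}).sheaf) := inferInstance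
  have hc : Coh.IsCoh ((Scheme.Modules.restrictFunctor V.ι).obj F) :=
    ProjBundleLib.isCoh_restrict_open hFc.1 hFc.2 V
  haveI := hc.1
  obtain ⟨e⟩ := nonempty_restrict_extS V F G i
  exact ⟨V, hxV, DCohLib.isCoh_iso e.symm (isCoh_extSh _ hc _ (ProjBundleLib.isCoh_restrict_open hG.1 hG.2 V) i)⟩

end Groth.Agent.ExtShLib
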