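import Groth.Agent.ExtShLib.Affine
import Groth.Agent.ExtShLib.Local
import Mathlib.Algebra.Homology.DerivedCategory.Ext.MapBijective
import Mathlib.Algebra.Category.ModuleCat.ChangeOfRings

/-!
# Sections of Ext sheaves; Ext groups and ring isomorphisms
-/

set_option autoImplicit false
set_option backward.isDefEq.respectTransparency false
set_option linter.style.haveILetI false
universe u

open CategoryTheory Limits Opposite TopologicalSpace AlgebraicGeometry
open Groth.Agent.PullbackMod Groth.Agent.DCohLib Groth.Agent.CohBase Groth.Agent.StalkHomLib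

noncomputable section

namespace Groth.Agent.ExtShLib

/-- Ext groups along an isomorphism of rings. -/
theorem exists_ext_ringEquiv {R S : Type u} [CommRing R] [CommRing S] (e : R ≃+* S) (M N : ModuleCat.{u} S) (n : ℕ) :
    ∃ f : Abelian.Ext.{u} M N n ≃+ Abelian.Ext.{u} ((ModuleCat.restrictScalars e.toRingHom).obj M)
        ((ModuleCat.restrictScalars e.toRingHom).obj N) n,
      ∀ (r : R) x, f (e r • x) = r • f x := by
  let F := ModuleCat.restrictScalars.{u} e.toRingHom
  haveI : F.IsEquivalence := (ModuleCat.restrictScalarsEquivalenceOfRingEquiv e).isEquivalence_functor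
  haveI : F.Additive := inferInstance
  haveI : PreservesFiniteLimits F := inferInstance
  haveI : PreservesFiniteColimits F := inferInstance
  haveI : F.PreservesProjectiveObjects := inferInstance
  refine ⟨AddEquiv.ofBijective (F.mapExtAddHom M N n) (F.mapExt_bijective_of_preservesProjectiveObjects M N n),
    fun r x => ?_⟩
  change Abelian.Ext.mapExactFunctor F (e r • x) = r • Abelian.Ext.mapExactFunctor F x
  rw [Abelian.Ext.smul_eq_comp_mk₀, Abelian.Ext.smul_eq_comp_mk₀, Abelian.Ext.mapExactFunctor_comp,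
    Abelian.Ext.mapExactFunctor_mk₀]
  congr 2

variable {X : Scheme.{u}} [IsAffine X] [IsLocallyNoetherian X] (F : X.Modules)
  [ModSite.HasSheafHom (O := X.sheaf) F] [Coh.IsQCoh F] [HasInjectiveResolutions (ModSite.Mod X.sheaf)]

/-- Global sections of the Ext sheaf on an affine scheme. -/
theorem nonempty_gsec_extS (hFc : Coh.IsCoh F) (G : X.Modules) [Coh.IsQCoh G] (i : ℕ) :
    Nonempty (gsec.obj (ExtVanLib.extS F G i) ≅
      ModuleCat.of Γ(X, ⊤) (Abelian.Ext.{u} (gsec.obj F) (gsec.obj G) i)) := by
  let e : G ≅ phi.obj (gsec.obj G) := liftIso (phiGsec (gsec.obj G)).toModuleIso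
  obtain ⟨l⟩ := nonempty_extSh_phi F hFc (gsec.obj G) i
  exact ⟨gsec.mapIso ((ModSite.extSh (O := X.sheaf) F i).mapIso e ≪≫ l) ≪≫
    (phiGsec (ModuleCat.of Γ(X, ⊤) (Abelian.Ext.{u} (MF F) (gsec.obj G) i))).symm.toModuleIso⟩

end Groth.Agent.ExtShLib
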