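import Groth.Agent.StalkHomLib.SectHom
import Groth.Agent.StalkHomLib.StalkExt
import Groth.Agent.ExtVanLib.Basic
import Groth.Agent.SpSeqLib.AcyclicResolution
import Groth.Agent.LocZLib.GammaQCoh
import Groth.Agent.TildeD.Exact
import Groth.Agent.TildeD.TensorQCoh
import Groth.Agent.DCohLib.PerfCoh
import Mathlib.RingTheory.LocalProperties.Injective

/-!
# Ext sheaves on an affine scheme
-/

set_option autoImplicit false
set_option backward.isDefEq.respectTransparency false
set_option linter.style.haveILetI false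
universe u

open CategoryTheory Limits Opposite TopologicalSpace AlgebraicGeometry
open Groth.Agent.PullbackMod Groth.Agent.DCohLib Groth.Agent.CohBase Groth.Agent.StalkHomLib

noncomputable section

namespace Groth.Agent.ExtShLib

variable {X : Scheme.{u}}

/-- Global sections as modules over the ring of global functions. -/
def gsec : X.Modules ⥤ ModuleCat.{u} Γ(X, ⊤) where
  obj M := ModuleCat.of Γ(X, ⊤) Γ(M, ⊤)
  map φ := ModuleCat.ofHom (PullbackMod.appLin φ ⊤)
  map_id _ := rfl
  map_comp _ _ := rfl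

instance : (gsec (X := X)).Additive where
  map_add := rfl

variable [IsAffine X]

theorem gsec_map_injective {M N : X.Modules} [Coh.IsQCoh M] {f g : M ⟶ N} (h : gsec.map f = gsec.map g) : f = g :=
  (detW_top M N).1 (congrArg ModuleCat.Hom.hom h)

theorem gsec_map_surjective {M N : X.Modules} [Coh.IsQCoh M] (l : gsec.obj M ⟶ gsec.obj N) :
    ∃ f : M ⟶ N, gsec.map f = l :=
  let ⟨f, hf⟩ := (detW_top M N).2 l.hom
  ⟨f, ModuleCat.hom_ext hf⟩

/-- A map of quasi-coherent modules lifting an isomorphism of global sections. -/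
def liftIso {M N : X.Modules} [Coh.IsQCoh M] [Coh.IsQCoh N] (e : gsec.obj M ≅ gsec.obj N) : M ≅ N where
  hom := (gsec_map_surjective e.hom).choose
  inv := (gsec_map_surjective e.inv).choose
  hom_inv_id := gsec_map_injective (by
    rw [Functor.map_comp, (gsec_map_surjective e.hom).choose_spec, (gsec_map_surjective e.inv).choose_spec,
      e.hom_inv_id, CategoryTheory.Functor.map_id])
  inv_hom_id := gsec_map_injective (by
    rw [Functor.map_comp, (gsec_map_surjective e.hom).choose_spec, (gsec_map_surjective e.inv).choose_spec,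
      e.inv_hom_id, CategoryTheory.Functor.map_id])

theorem gsec_liftIso {M N : X.Modules} [Coh.IsQCoh M] [Coh.IsQCoh N] (e : gsec.obj M ≅ gsec.obj N) :
    gsec.map (liftIso e).hom = e.hom :=
  (gsec_map_surjective e.hom).choose_spec

instance isIso_fromSpec : IsIso (isAffineOpen_top X).fromSpec := by
  haveI : Epi (isAffineOpen_top X).fromSpec.base := (TopCat.epi_iff_surjective _).2 fun x => by
    have hx : x ∈ Set.range (isAffineOpen_top X).fromSpec := by
      rw [(isAffineOpen_top X).range_fromSpec]; trivial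
    exact hx
  exact IsOpenImmersion.isIso (isAffineOpen_top X).fromSpec

/-- The quasi-coherent module of a module over the global functions. -/
def phi : ModuleCat.{u} Γ(X, ⊤) ⥤ X.Modules :=
  tilde.functor Γ(X, ⊤) ⋙ Scheme.Modules.pushforward (isAffineOpen_top X).fromSpec

theorem isEquivalence_push : (Scheme.Modules.pushforward (isAffineOpen_top X).fromSpec).IsEquivalence := by
  let j := (isAffineOpen_top X).fromSpec
  haveI : (Scheme.Modules.restrictFunctor j).IsEquivalence :=
    (LocZLib.GammaQCoh.restrictEquivalence (asIso j)).isEquivalence_functor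
  exact (Scheme.Modules.restrictAdjunction j).isEquivalence_right_of_isEquivalence_left

instance : PreservesFiniteLimits (phi (X := X)) := by
  haveI := isEquivalence_push (X := X)
  haveI := TildeD.preservesFiniteLimits_tilde (R := Γ(X, ⊤))
  exact comp_preservesFiniteLimits _ _

instance : PreservesFiniteColimits (phi (X := X)) := by
  haveI := isEquivalence_push (X := X)
  haveI : PreservesColimitsOfSize.{0, 0} (tilde.functor Γ(X, ⊤)) :=
    tilde.adjunction.leftAdjoint_preservesColimits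
  exact comp_preservesFiniteColimits _ _

instance : (phi (X := X)).Additive := Functor.additive_of_preserves_binary_products _

instance isQCoh_phi (N : ModuleCat.{u} Γ(X, ⊤)) : Coh.IsQCoh (phi.obj N) :=
  haveI := TildeD.isQCoh_tilde N
  QCohLib.isQCoh_pushforward _ (isAffineOpen_top X).fromSpec

/-- The global sections of `phi`. -/
def phiGsec (N : ModuleCat.{u} Γ(X, ⊤)) : N ≃ₗ[Γ(X, ⊤)] gsec.obj (phi.obj N) :=
  let j := (isAffineOpen_top X).fromSpec
  let T := (tilde.functor Γ(X, ⊤)).obj N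
  let u : N →ₗ[Γ(X, ⊤)] gsec.obj (phi.obj N) :=
    { toFun := fun n => T.presheaf.map (homOfLE (le_top : j ⁻¹ᵁ ⊤ ≤ ⊤)).op (tilde.toOpen N ⊤ n)
      map_add' := fun n n' => (congrArg _ (map_add (tilde.toOpen N ⊤).hom n n')).trans (map_add _ _ _)
      map_smul' := fun a n => by
        refine (congrArg _ (map_smul (tilde.toOpen N ⊤).hom a n)).trans ?_
        refine (congrArg _ (Scheme.Modules.smul_Spec_def (M := T) a _)).trans ?_
        refine (StalkHomLib.map_smul' T (le_top : j ⁻¹ᵁ ⊤ ≤ ⊤) _ _).trans ?_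
        refine congrArg (· • T.presheaf.map (homOfLE (le_top : j ⁻¹ᵁ ⊤ ≤ ⊤)).op (tilde.toOpen N ⊤ n)) ?_
        have h := congrArg ((Spec Γ(X, ⊤)).presheaf.map (homOfLE (le_top : j ⁻¹ᵁ ⊤ ≤ ⊤)).op)
          (res_app_fromSpec (isAffineOpen_top X) a)
        rw [res_res] at h
        refine Eq.trans ?_ (Eq.trans h.symm ?_)
        · show (Spec Γ(X, ⊤)).presheaf.map _ ((Spec Γ(X, ⊤)).presheaf.map _ _) = _
          rw [show (⊤ : (Spec Γ(X, ⊤)).Opens).leTop = homOfLE le_top from Subsingleton.elim _ _, res_res]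
          rfl
        · show (Spec Γ(X, ⊤)).presheaf.map (𝟙 _) (j.app ⊤ a) = _
          rw [(Spec Γ(X, ⊤)).presheaf.map_id]
          rfl }
  LinearEquiv.ofBijective u (by
    have e : j ⁻¹ᵁ (⊤ : X.Opens) = ⊤ := rfl
    show Function.Bijective (⇑(ConcreteCategory.hom (T.presheaf.map (eqToHom e).op)) ∘
      ⇑(ConcreteCategory.hom (tilde.toOpen N ⊤)))
    exact (ConcreteCategory.bijective_of_isIso (T.presheaf.map (eqToHom e).op)).comp
      (ConcreteCategory.bijective_of_isIso (tilde.toOpen N ⊤)))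

theorem phiGsec_natural {N N' : ModuleCat.{u} Γ(X, ⊤)} (f : N ⟶ N') (n : N) :
    (gsec.map (phi.map f)) (phiGsec N n) = phiGsec N' (f n) := by
  let j := (isAffineOpen_top X).fromSpec
  refine (app_natural (tilde.map f) (le_top : j ⁻¹ᵁ ⊤ ≤ ⊤) (tilde.toOpen N ⊤ n)).trans (congrArg _ ?_)
  exact ConcreteCategory.congr_hom (tilde.toOpen_map_app f ⊤) n

variable (F : X.Modules) [ModSite.HasSheafHom (O := X.sheaf) F] [Coh.IsQCoh F]

/-- The sections of `F`. -/
abbrev MF : ModuleCat.{u} Γ(X, ⊤) := gsec.obj F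

/-- Hom into global sections. -/
abbrev coy : ModuleCat.{u} Γ(X, ⊤) ⥤ ModuleCat.{u} Γ(X, ⊤) :=
  (linearCoyoneda Γ(X, ⊤) (ModuleCat.{u} Γ(X, ⊤))).obj (op (MF F))

/-- Homs into a module as sections of the internal Hom. -/
def homGsec (N : ModuleCat.{u} Γ(X, ⊤)) : gsec.obj ((hF F).obj (phi.obj N)) ≅ (coy F).obj N :=
  LinearEquiv.toModuleIso ((LinearEquiv.ofBijective (psi F (phi.obj N) ⊤)
    ⟨psi_injective F _ (isAffineOpen_top X), psi_surjective F _ (isAffineOpen_top X)⟩).trans
    { toFun := fun l => (ModuleCat.ofHom ((phiGsec N).symm.toLinearMap.comp l) : MF F ⟶ N)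
      invFun := fun g => (phiGsec N).toLinearMap.comp g.hom
      map_add' := fun l l' => ModuleCat.hom_ext (LinearMap.ext fun m => map_add (phiGsec N).symm _ _)
      map_smul' := fun a l => ModuleCat.hom_ext (LinearMap.ext fun m => map_smul (phiGsec N).symm a _)
      left_inv := fun l => LinearMap.ext fun m => (phiGsec N).apply_symm_apply _
      right_inv := fun g => ModuleCat.hom_ext (LinearMap.ext fun m => (phiGsec N).symm_apply_apply _) })

theorem homGsec_natural {N N' : ModuleCat.{u} Γ(X, ⊤)} (f : N ⟶ N') :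
    gsec.map ((hF F).map (phi.map f)) ≫ (homGsec F N').hom = (homGsec F N).hom ≫ (coy F).map f := by
  refine ModuleCat.hom_ext (LinearMap.ext fun h => ModuleCat.hom_ext (LinearMap.ext fun m => ?_))
  show (phiGsec N').symm (evS F (phi.obj N') (((hF F).map (phi.map f)).app ⊤ h) m) =
    f.hom ((phiGsec N).symm (evS F (phi.obj N) h m))
  apply (phiGsec N').injective
  rw [LinearEquiv.apply_symm_apply]
  refine Eq.trans ?_ (phiGsec_natural f _)
  rw [LinearEquiv.apply_symm_apply]
  show (ev F _).app ⊤ (pairS _ F _ m) = (phi.map f).app ⊤ ((ev F _).app ⊤ (pairS _ F h m))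
  rw [← tensorBi_app_pairS_left ((hF F).map (phi.map f)) h m]
  exact congrArg (fun k : tmod ((hF F).obj (phi.obj N)) F ⟶ phi.obj N' => k.app ⊤ (pairS _ F h m))
    ((ModSite.sheafHomAdj (O := X.sheaf) F).counit.naturality (phi.map f))

theorem injective_stalk_phi [IsLocallyNoetherian X] (E : ModuleCat.{u} Γ(X, ⊤)) [Injective E] (x : X) :
    Injective (ModuleCat.of (X.presheaf.stalk x) ((phi.obj E).presheaf.stalk x)) := by
  haveI : IsNoetherianRing Γ(X, ⊤) := IsLocallyNoetherian.component_noetherian ⟨⊤, isAffineOpen_top X⟩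
  let x' : (⊤ : X.Opens) := ⟨x, trivial⟩
  letI : Algebra Γ(X, ⊤) (X.presheaf.stalk x) := TopCat.Presheaf.algebra_section_stalk X.presheaf x'
  haveI := (isAffineOpen_top X).isLocalization_stalk x'
  letI := Module.compHom ((phi.obj E).presheaf.stalk x) (X.presheaf.germ ⊤ x trivial).hom
  haveI : IsScalarTower Γ(X, ⊤) (X.presheaf.stalk x) ((phi.obj E).presheaf.stalk x) :=
    .of_algebraMap_smul fun _ _ => rfl
  let g : E →ₗ[Γ(X, ⊤)] (phi.obj E).presheaf.stalk x :=
    (FlatLocus.germL (phi.obj E) ⊤ x trivial).comp (phiGsec E).toLinearMap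
  haveI := FlatLocus.isLocalizedModule_germL (phi.obj E) (isAffineOpen_top X) x trivial
  haveI : IsLocalizedModule ((isAffineOpen_top X).primeIdealOf x').asIdeal.primeCompl g :=
    IsLocalizedModule.of_linearEquiv_right _ _ (phiGsec E)
  haveI : Module.Injective Γ(X, ⊤) E := Module.injective_module_of_injective_object Γ(X, ⊤) E
  haveI : Module.Injective (X.presheaf.stalk x) ((phi.obj E).presheaf.stalk x) :=
    Module.injective_of_isLocalizedModule ((isAffineOpen_top X).primeIdealOf x').asIdeal.primeCompl g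
  exact Module.injective_object_of_injective_module _ _

variable [IsLocallyNoetherian X]

theorem isQCoh_hF (hFc : Coh.IsCoh F) (N : X.Modules) [Coh.IsQCoh N] : Coh.IsQCoh ((hF F).obj N) :=
  StalkHomLib.isQCoh_hF' F N hFc

/-- The internal Hom on quasi-coherent modules is Hom of sections. -/
def homPhi (hFc : Coh.IsCoh F) : phi ⋙ hF F ≅ coy F ⋙ phi :=
  NatIso.ofComponents
    (fun N =>
      haveI : Coh.IsQCoh ((phi ⋙ hF F).obj N) := isQCoh_hF F hFc (phi.obj N)
      haveI : Coh.IsQCoh ((coy F ⋙ phi).obj N) := isQCoh_phi _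
      liftIso (M := (phi ⋙ hF F).obj N) (N := (coy F ⋙ phi).obj N) (homGsec F N ≪≫ (phiGsec ((coy F).obj N)).toModuleIso))
    fun {N N'} f => by
      haveI : Coh.IsQCoh ((phi ⋙ hF F).obj N) := isQCoh_hF F hFc (phi.obj N)
      haveI : Coh.IsQCoh ((phi ⋙ hF F).obj N') := isQCoh_hF F hFc (phi.obj N')
      refine gsec_map_injective ?_
      simp only [Functor.comp_map, Functor.map_comp, gsec_liftIso]
      refine ModuleCat.hom_ext (LinearMap.ext fun h => ?_)
      show phiGsec _ ((homGsec F N').hom (gsec.map ((hF F).map (phi.map f)) h)) =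
        gsec.map (phi.map ((coy F).map f)) (phiGsec _ ((homGsec F N).hom h))
      rw [phiGsec_natural]
      exact congrArg (phiGsec _) (ConcreteCategory.congr_hom (homGsec_natural F f) h)

theorem nonempty_extSh_phi [HasInjectiveResolutions (ModSite.Mod X.sheaf)] (hFc : Coh.IsCoh F)
    (N : ModuleCat.{u} Γ(X, ⊤)) (i : ℕ) :
    Nonempty (ExtVanLib.extS F (phi.obj N) i ≅ phi.obj (ModuleCat.of Γ(X, ⊤) (Abelian.Ext.{u} (MF F) N i))) := by
  haveI : HasInjectiveResolutions X.Modules := ‹HasInjectiveResolutions (ModSite.Mod X.sheaf)›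
  haveI : (hF F).Additive := (ModSite.sheafHomAdj (O := X.sheaf) F).right_adjoint_additive
  have hac : ∀ E : ModuleCat.{u} Γ(X, ⊤), Injective E → SpSeqLib.IsAcyclicFor (hF F) (phi.obj E) := fun E hE p => by
    refine isZero_of_stalks (M := ExtVanLib.extS F (phi.obj E) (p + 1)) fun x => ?_
    obtain ⟨e⟩ := ExtVanLib.stalk_extSh_equiv F hFc (phi.obj E) x (p + 1)
    haveI := injective_stalk_phi E x
    exact e.subsingleton_congr.2 (Abelian.Ext.subsingleton_of_injective _ _ p)
  obtain ⟨l⟩ := nonempty_homology_linCx_iso Γ(X, ⊤) (MF F) (injectiveResolution N) i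
  exact ⟨((SpSeqLib.rightDerivedPrecompAcyclicIso (phi (X := X)) (hF F) hac i).symm ≪≫
    SpSeqLib.rightDerivedCongr (homPhi F hFc) i ≪≫
    SpSeqLib.rightDerivedPostcompIso (coy F) (phi (X := X)) i).app N ≪≫
    phi.mapIso ((injectiveResolution N).isoRightDerivedObj (coy F) i ≪≫ l)⟩

theorem isQCoh_extSh [HasInjectiveResolutions (ModSite.Mod X.sheaf)] (hFc : Coh.IsCoh F)
    (G : X.Modules) [Coh.IsQCoh G] (i : ℕ) : Coh.IsQCoh (ExtVanLib.extS F G i) := by
  let e : G ≅ phi.obj (gsec.obj G) := liftIso (phiGsec (gsec.obj G)).toModuleIso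
  obtain ⟨l⟩ := nonempty_extSh_phi F hFc (gsec.obj G) i
  exact DCohLib.isQCoh_of_iso' ((ModSite.extSh (O := X.sheaf) F i).mapIso e ≪≫ l).symm (isQCoh_phi _)

theorem isCoh_extSh [HasInjectiveResolutions (ModSite.Mod X.sheaf)] (hFc : Coh.IsCoh F)
    (G : X.Modules) (hG : Coh.IsCoh G) (i : ℕ) : Coh.IsCoh (ExtVanLib.extS F G i) := by
  haveI := hG.1
  haveI : IsNoetherianRing Γ(X, ⊤) := IsLocallyNoetherian.component_noetherian ⟨⊤, isAffineOpen_top X⟩
  haveI := QCohLib.finite_sections_of_isCoh hFc (isAffineOpen_top X)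
  haveI := QCohLib.finite_sections_of_isCoh hG (isAffineOpen_top X)
  let e : G ≅ phi.obj (gsec.obj G) := liftIso (phiGsec (gsec.obj G)).toModuleIso
  obtain ⟨l⟩ := nonempty_extSh_phi F hFc (gsec.obj G) i
  let E := ModuleCat.of Γ(X, ⊤) (Abelian.Ext.{u} (MF F) (gsec.obj G) i)
  haveI : Module.Finite Γ(X, ⊤) (MF F) := ‹Module.Finite Γ(X, ⊤) Γ(F, ⊤)›
  haveI : Module.Finite Γ(X, ⊤) (gsec.obj G) := ‹Module.Finite Γ(X, ⊤) Γ(G, ⊤)›
  haveI : Module.Finite Γ(X, ⊤) E := inferInstanceAs (Module.Finite Γ(X, ⊤) (Abelian.Ext.{u} (MF F) (gsec.obj G) i))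
  haveI : Module.Finite Γ(X, ⊤) Γ(phi.obj E, ⊤) := Module.Finite.equiv (phiGsec E)
  have h : Coh.IsCoh (phi.obj E) := ⟨isQCoh_phi E, QCohLib.isFiniteType_of_finite (phi.obj E)
    (fun _ : PUnit.{u + 1} => (⊤ : X.Opens)) (fun _ => isAffineOpen_top X) (ciSup_const) fun _ => ‹_›⟩
  exact DCohLib.isCoh_iso ((ModSite.extSh (O := X.sheaf) F i).mapIso e ≪≫ l).symm h

end Groth.Agent.ExtShLib
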