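import Groth.Agent.ExtShLib.Supp
import Groth.Agent.LocZLib.DepthCrit
import Groth.Agent.LocZLib.Flasque
import Groth.Agent.SpSeqLib.DerivedComp
import Groth.Agent.RpushLib.ToAb

/-!
# Sections with supports of modules and of the underlying abelian sheaves
-/

set_option autoImplicit false
set_option backward.isDefEq.respectTransparency false
set_option linter.style.haveILetI false
universe u

open CategoryTheory Limits Opposite TopologicalSpace AlgebraicGeometry

noncomputable section

namespace Groth.Agent.ExtShLib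

variable {X : Scheme.{u}} (U : X.Opens)

/-- The underlying abelian sheaf. -/
abbrev absh : X.Modules ⥤ CohTop.Ab X.carrier := QCohLib.toAbF X

/-- A map is killed by restricting to the open. -/
def KilledOn {A : CohTop.Ab X.carrier} {M : X.Modules} (φ : A ⟶ absh.obj M) : Prop :=
  ∀ (V : X.Opens) (s : A.obj.obj (op V)),
    (absh.obj M).obj.map (homOfLE (U.ι.image_preimage_le V)).op (φ.hom.app (op V) s) = 0

theorem comp_modUnit_iff {A : CohTop.Ab X.carrier} {M : X.Modules} (φ : A ⟶ absh.obj M) :
    φ ≫ absh.map ((Scheme.Modules.restrictAdjunction U.ι).unit.app M) = 0 ↔ KilledOn U φ := by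
  refine ⟨fun h V s => ConcreteCategory.congr_hom (congrArg (fun k => k.hom.app (op V)) h) s, fun h => ?_⟩
  apply Sheaf.hom_ext
  ext V s
  exact h V.unop s

theorem comp_topUnit_iff {A : CohTop.Ab X.carrier} {M : X.Modules} (φ : A ⟶ absh.obj M) :
    φ ≫ (LocZLib.outsideUnit (X := X.carrier) U).app (absh.obj M) = 0 ↔ KilledOn U φ := by
  let u := (LocZLib.restrPushAdj (X := X.carrier) U).unit.app (absh.obj M)
  let m := (CohTop.push (CohCx.incl (X := X.carrier) U)).map
    ((LocZLib.restrPullIso (X := X.carrier) U).hom.app (absh.obj M))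
  have h2 : φ ≫ (LocZLib.outsideUnit (X := X.carrier) U).app (absh.obj M) = 0 ↔ φ ≫ u = 0 := by
    rw [LocZLib.unit_app_eq]
    refine ⟨fun h => ?_, fun h => ?_⟩
    · rw [← cancel_mono m, zero_comp, Category.assoc]; exact h
    · show φ ≫ u ≫ m = 0
      rw [← Category.assoc, h, zero_comp]
  rw [h2]
  refine ⟨fun h V s => ConcreteCategory.congr_hom (congrArg (fun k => k.hom.app (op V)) h) s, fun h => ?_⟩
  apply Sheaf.hom_ext
  ext V s
  exact h V.unop s


theorem gammaι_killed (M : X.Modules) :
    KilledOn U (absh.map (kernel.ι ((Scheme.Modules.restrictAdjunction U.ι).unit.app M))) :=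
  (comp_modUnit_iff U _).1 ((absh.map_comp _ _).symm.trans ((congrArg absh.map (kernel.condition _)).trans ((absh (X := X)).map_zero _ _)))


/-- The kernel of the module unit, in abelian sheaves. -/
def isLimitMap (M : X.Modules) :=
  KernelFork.mapIsLimit _ (kernelIsKernel ((Scheme.Modules.restrictAdjunction U.ι).unit.app M)) (absh (X := X))

theorem suppι_modUnit (M : X.Modules) :
    (LocZLib.suppι (X := X.carrier) U).app (absh.obj M) ≫
      absh.map ((Scheme.Modules.restrictAdjunction U.ι).unit.app M) = 0 :=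
  (comp_modUnit_iff U _).2 ((comp_topUnit_iff U _).1 (LocZLib.suppι_unit (X := X.carrier) U _))

/-- The two kinds of sections with supports agree. -/
def gammaAbObjIso (M : X.Modules) :
    absh.obj ((DCoh.gammaZ U.ι).obj M) ≅ (LocCohZ.sectSuppF (X := X.carrier) U).obj (absh.obj M) where
  hom := kernel.lift _ (absh.map (kernel.ι ((Scheme.Modules.restrictAdjunction U.ι).unit.app M)))
    ((comp_topUnit_iff U _).2 (gammaι_killed U M))
  inv := (isLimitMap U M).lift (KernelFork.ofι ((LocZLib.suppι (X := X.carrier) U).app (absh.obj M)) (suppι_modUnit U M))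
  hom_inv_id := by
    apply Fork.IsLimit.hom_ext (isLimitMap U M)
    rw [Category.assoc, Category.id_comp, Fork.IsLimit.lift_ι]
    exact kernel.lift_ι _ _ _
  inv_hom_id := by
    apply equalizer.hom_ext
    refine (Category.assoc _ _ _).trans ?_
    rw [kernel.lift_ι, Category.id_comp]
    exact Fork.IsLimit.lift_ι (isLimitMap U M)

/-- Forgetting the module structure commutes with sections with supports. -/
def gammaAbIso : DCoh.gammaZ U.ι ⋙ absh ≅ absh ⋙ LocCohZ.sectSuppF (X := X.carrier) U :=
  NatIso.ofComponents (gammaAbObjIso U) fun {M N} f => by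
    apply equalizer.hom_ext
    refine (Category.assoc _ _ _).trans ((congrArg (_ ≫ ·) (kernel.lift_ι _ _ _)).trans ?_)
    refine Eq.trans ?_ ((Category.assoc _ _ _).trans (congrArg (_ ≫ ·) (kernel.lift_ι _ _ _))).symm
    refine Eq.trans ?_ ((congrArg (· ≫ absh.map f) (kernel.lift_ι _ _ _).symm).trans (Category.assoc _ _ _))
    exact ((absh.map_comp _ _).symm.trans (congrArg absh.map (kernel.lift_ι _ _ _))).trans (absh.map_comp _ _)

/-- Vanishing of local cohomology may be checked on abelian sheaves. -/
theorem isZero_HZsh_of_ab [HasInjectiveResolutions (ModSite.Mod X.sheaf)] (G : X.Modules) (q : ℕ)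
    (hab : IsZero ((LocCohZ.HZsh (X := X.carrier) U q).obj ((QCohLib.toAbF X).obj G))) :
    IsZero (((ModSite.sectOn X.sheaf U : X.Modules ⥤ X.Modules).rightDerived q).obj G) := by
  haveI : HasInjectiveResolutions X.Modules := ‹HasInjectiveResolutions (ModSite.Mod X.sheaf)›
  haveI : (ModSite.sectOn X.sheaf U : X.Modules ⥤ X.Modules).Additive := ModSite.sectOn_additive X.sheaf U
  haveI : (DCoh.gammaZ U.ι).Additive := Functor.additive_of_iso (sectGammaIso U)
  let e := (SpSeqLib.rightDerivedPostcompIso (DCoh.gammaZ U.ι) (QCohLib.toAbF X) q).symm ≪≫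
    SpSeqLib.rightDerivedCongr (gammaAbIso U) q ≪≫
    SpSeqLib.rightDerivedPrecompAcyclicIso (QCohLib.toAbF X) (LocCohZ.sectSuppF (X := X.carrier) U) (fun I _ p =>
      haveI : TopCat.Sheaf.IsFlasque ((QCohLib.toAbF X).obj I) :=
        LocZLib.isFlasque_of_surjective _ fun h => RpushLib.surjective_rM_injective I h
      LocZLib.isZero_HZsh_flasque (X := X.carrier) U p _) q
  refine IsZero.of_iso ?_ ((SpSeqLib.rightDerivedCongr (sectGammaIso U) q).app G)
  have h := hab.of_iso (e.app G)
  rw [IsZero.iff_id_eq_zero] at h ⊢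
  haveI : (QCohLib.toAbF X).Faithful := inferInstanceAs (SheafOfModules.toSheaf X.ringCatSheaf).Faithful
  apply (QCohLib.toAbF X).map_injective
  rw [CategoryTheory.Functor.map_id, Functor.map_zero]
  exact h

/-- Local cohomology of coherent modules vanishes below the depth along the closed complement. -/
theorem isZero_HZsh_of_depth [IsLocallyNoetherian X] [HasInjectiveResolutions (ModSite.Mod X.sheaf)]
    (G : X.Modules) (hG : Coh.IsCoh G) (n : ℕ)
    (hd : ∀ x : X, x ∉ (U : Set X) → (n : ℕ∞) ≤ LocCoh.depth (X.presheaf.stalk x) (G.presheaf.stalk x))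
    (q : ℕ) (hq : q < n) :
    IsZero (((ModSite.sectOn X.sheaf U : X.Modules ⥤ X.Modules).rightDerived q).obj G) :=
  isZero_HZsh_of_ab U G q ((LocZLib.isZero_HZsh_lt_iff_depth U G hG n).2 hd q hq)

end Groth.Agent.ExtShLib
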