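import Mathlib
import Groth.Prelude.Def_SpSeq

/-!
# Membership of abutments in a weak Serre class
-/

set_option autoImplicit false
set_option linter.style.haveILetI false
universe v u

open CategoryTheory Limits

noncomputable section

namespace Groth.Agent.ExtShLib

variable {C : Type u} [Category.{v} C] [Abelian C] (P : C → Prop)

/-- Closed under isomorphisms, kernels, cokernels and extensions, and containing the zero objects. -/
structure IsWeakSerre : Prop where
  iso : ∀ {A B : C}, (A ≅ B) → P A → P B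
  zero : ∀ {A : C}, IsZero A → P A
  ker : ∀ {A B : C} (f : A ⟶ B), P A → P B → P (kernel f)
  coker : ∀ {A B : C} (f : A ⟶ B), P A → P B → P (cokernel f)
  ext : ∀ {S : ShortComplex C}, S.ShortExact → P S.X₁ → P S.X₃ → P S.X₂

variable {P} (hP : IsWeakSerre P)

include hP in
theorem IsWeakSerre.homology (S : ShortComplex C) (h₁ : P S.X₁) (h₂ : P S.X₂) (h₃ : P S.X₃) :
    P S.homology :=
  hP.iso (ShortComplex.LeftHomologyData.ofHasKernelOfHasCokernel S).homologyIso.symm
    (hP.coker _ h₁ (hP.ker _ h₂ h₃))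

include hP in
theorem IsWeakSerre.page {E : E₂CohomologicalSpectralSequence C}
    (hE : ∀ pq : ℤ × ℤ, P ((E.page 2 le_rfl).X pq)) (r : ℤ) (hr : 2 ≤ r) :
    ∀ pq, P ((E.page r hr).X pq) := by
  induction r, hr using Int.le_induction with
  | base => exact hE
  | succ r hr ih =>
    exact fun pq => hP.iso (E.iso r (r + 1) pq rfl hr) (hP.homology _ (ih _) (ih _) (ih _))

include hP in
theorem IsWeakSerre.abutment {E : E₂CohomologicalSpectralSequence C} {H : ℤ → C}
    (a : SpSeq.Abutment E H) (n : ℤ) (hn : a.IsFinite n) (hE : ∀ pq : ℤ × ℤ, P ((E.page 2 le_rfl).X pq)) :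
    P (H n) := by
  obtain ⟨⟨c, hc⟩, d, hd⟩ := hn
  change a.fil n c = ⊤ at hc
  change a.fil n d = ⊥ at hd
  have hbot : ∀ i, d ≤ i → P ((a.fil n i : Subobject (H n)) : C) := fun i hi => by
    have h : a.fil n i = ⊥ := le_bot_iff.1 (hd ▸ a.anti n hi)
    rw [h]
    exact hP.zero (IsZero.of_iso (isZero_zero C) Subobject.botCoeIsoZero)
  have key : ∀ k : ℕ, ∀ i, d - i ≤ k → P ((a.fil n i : Subobject (H n)) : C) := by
    intro k
    induction k with
    | zero => exact fun i hi => hbot i (by omega)
    | succ k ih =>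
      intro i hi
      obtain h | h := le_or_gt d i
      · exact hbot i h
      obtain ⟨q, rfl⟩ : ∃ q, n = i + q := ⟨n - i, by omega⟩
      have hg := hP.iso (a.β (i, q)) (hP.page hE _ (a.stat (i, q)).1 _)
      let f := (a.fil (i + q) (i + 1)).ofLE _ (a.anti (i + q) (Int.le_add_one le_rfl))
      exact hP.ext (S := ShortComplex.mk f (cokernel.π f) (cokernel.condition f))
        { exact := ShortComplex.exact_of_g_is_cokernel _ (cokernelIsCokernel f)
          mono_f := inferInstanceAs (Mono f)
          epi_g := inferInstanceAs (Epi (cokernel.π f)) } (ih (i + 1) (by omega)) hg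
  have h := key (d - c).toNat c (by omega)
  rw [hc] at h
  exact hP.iso (asIso (⊤ : Subobject (H n)).arrow) h

/-- An abutment vanishes in a degree where the second page vanishes. -/
theorem isZero_abutment {E : E₂CohomologicalSpectralSequence C} {H : ℤ → C}
    (a : SpSeq.Abutment E H) (n : ℤ) (hn : a.IsFinite n)
    (hE : ∀ p : ℤ, IsZero ((E.page 2 le_rfl).X (p, n - p))) : IsZero (H n) := by
  have hpage : ∀ pq : ℤ × ℤ, IsZero ((E.page 2 le_rfl).X pq) → ∀ (r : ℤ) (hr : 2 ≤ r), IsZero ((E.page r hr).X pq) := by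
    intro pq h r hr
    induction r, hr using Int.le_induction with
    | base => exact h
    | succ r hr ih =>
      exact IsZero.of_iso ((ShortComplex.exact_iff_isZero_homology _).1
        (ShortComplex.exact_of_isZero_X₂ _ ih)) (E.iso r (r + 1) pq rfl hr).symm
  obtain ⟨⟨c, hc⟩, d, hd⟩ := hn
  change a.fil n c = ⊤ at hc
  change a.fil n d = ⊥ at hd
  have hbot : ∀ i, d ≤ i → a.fil n i = ⊥ := fun i hi => le_bot_iff.1 (hd ▸ a.anti n hi)
  have key : ∀ k : ℕ, ∀ i, d - i ≤ k → a.fil n i = ⊥ := by
    intro k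
    induction k with
    | zero => exact fun i hi => hbot i (by omega)
    | succ k ih =>
      intro i hi
      obtain h | h := le_or_gt d i
      · exact hbot i h
      obtain ⟨q, rfl⟩ : ∃ q, n = i + q := ⟨n - i, by omega⟩
      have h2 : IsZero ((E.page 2 le_rfl).X (i, q)) := by
        have := hE i
        rwa [add_sub_cancel_left] at this
      have hg := (hpage (i, q) h2 _ (a.stat (i, q)).1).of_iso (a.β (i, q)).symm
      have hle : a.fil (i + q) (i + 1) ≤ a.fil (i + q) i := a.anti _ (Int.le_add_one le_rfl)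
      haveI : Epi ((a.fil (i + q) (i + 1)).ofLE _ hle) := Preadditive.epi_of_isZero_cokernel _ hg
      haveI : IsIso ((a.fil (i + q) (i + 1)).ofLE _ hle) := isIso_of_mono_of_epi _
      rw [← ih (i + 1) (by omega)]
      exact le_antisymm (Subobject.le_of_comm (inv ((a.fil (i + q) (i + 1)).ofLE _ hle))
        (by rw [IsIso.inv_comp_eq, Subobject.ofLE_arrow])) hle
  have h := key (d - c).toNat c (by omega)
  rw [hc] at h
  exact IsZero.of_iso ((isZero_zero C).of_iso Subobject.botCoeIsoZero)
    ((asIso (⊤ : Subobject (H n)).arrow).symm ≪≫ eqToIso (by rw [h]))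

end Groth.Agent.ExtShLib
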