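import Groth.Agent.ExtShLib.Depth
import Mathlib.Algebra.Homology.HomologicalComplexLimits
import Groth.Agent.GorLib.Heights
import Groth.Agent.RegLocal.Consequences

/-!
# Splitting supports along the dimension
-/

set_option autoImplicit false
set_option backward.isDefEq.respectTransparency false
set_option linter.style.haveILetI false
universe u

open CategoryTheory Limits Opposite TopologicalSpace AlgebraicGeometry
open Groth.Agent.PullbackMod Groth.Agent.DCohLib

noncomputable section

namespace Groth.Agent.ExtShLib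

/-- Between a prime of height at most `n` and the maximal ideal of a larger regular local ring lies a prime of
height `n`. -/
theorem exists_prime_height {R : Type u} [CommRing R] [IsRegularLocalRing R] (Q : PrimeSpectrum R) (n : ℕ)
    (hQ : Q.asIdeal.height ≤ n) (hn : ((n : ℕ∞) : WithBot ℕ∞) ≤ ringKrullDim R) :
    ∃ P : PrimeSpectrum R, Q ≤ P ∧ P.asIdeal.height = n := by
  obtain ⟨b, hb⟩ := RegLocal.exists_nat_ringKrullDim R
  obtain ⟨a, ha⟩ := ENat.ne_top_iff_exists.1 (ne_top_of_le_ne_top (ENat.coe_ne_top n) hQ)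
  have key := GorLib.height_add_ringKrullDim_quotient (GorLib.gorensteinLocal_of_regular R) Q.asIdeal
  rw [← ha] at hQ key
  rw [hb] at hn key
  have han : a ≤ n := by exact_mod_cast hQ
  have hnb : n ≤ b := by exact_mod_cast hn
  have hq : ((b - a : ℕ) : WithBot ℕ∞) ≤ ringKrullDim (R ⧸ Q.asIdeal) := by
    revert key
    generalize ringKrullDim (R ⧸ Q.asIdeal) = d
    intro key
    induction d with
    | bot => simp at key
    | coe d =>
      induction d with
      | top => exact le_top
      | coe d =>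
        have : a + d = b := by exact_mod_cast key
        exact WithBot.coe_le_coe.2 (ENat.coe_le_coe.2 (show b - a ≤ d by omega))
  rw [ringKrullDim, Order.le_krullDim_iff] at hq
  obtain ⟨l, hl⟩ := hq
  let f : PrimeSpectrum (R ⧸ Q.asIdeal) → PrimeSpectrum R := PrimeSpectrum.comap (Ideal.Quotient.mk Q.asIdeal)
  have hf : StrictMono f := by
    refine Monotone.strictMono_of_injective (fun _ _ h => Ideal.comap_mono h) ?_
    exact PrimeSpectrum.comap_injective_of_surjective _ Ideal.Quotient.mk_surjective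
  let l' : LTSeries (PrimeSpectrum R) := l.map f hf
  let i : Fin (l'.length + 1) := ⟨n - a, by show n - a < l.length + 1; omega⟩
  have hQl : ∀ j, Q ≤ l' j := fun j => by
    show Q.asIdeal ≤ Ideal.comap (Ideal.Quotient.mk Q.asIdeal) (l j).asIdeal
    intro x hx
    simp [Ideal.Quotient.eq_zero_iff_mem.2 hx]
  refine ⟨l' i, hQl i, ?_⟩
  rw [PrimeSpectrum.height_eq_orderHeight] at ha ⊢
  obtain ⟨m, hm1, hm2⟩ := Order.exists_series_of_le_height l'.head
    (ha.le.trans (Order.height_mono (hQl 0)))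
  refine le_antisymm (le_of_not_gt fun hlt => ?_) ?_
  · obtain ⟨m', hm1', hm2'⟩ := Order.exists_series_of_le_height (l' i) (Order.add_one_le_of_lt hlt : ((n + 1 : ℕ) : ℕ∞) ≤ _)
    have := Order.LTSeries.length_le_krullDim
      (RelSeries.smash m' (l'.drop i) (hm1'.trans (RelSeries.head_drop l' i).symm))
    rw [RelSeries.smash_length, RelSeries.drop_length, hm2', ← ringKrullDim, hb] at this
    have h2 : n + 1 + (l.length - (n - a)) ≤ b := by exact_mod_cast this
    omega
  · have h := Order.length_le_height (p := RelSeries.smash m (l'.take i) (hm1.trans (RelSeries.head_take l' i).symm))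
      (x := l' i) (le_of_eq (by rw [RelSeries.last_smash, RelSeries.last_take]))
    rw [RelSeries.smash_length, hm2] at h
    refine le_trans (le_of_eq ?_) h
    show (n : ℕ∞) = ((a + (n - a) : ℕ) : ℕ∞)
    rw [Nat.add_sub_cancel' han]

variable {X : Scheme.{u}}

/-- Along a specialisation of points with regular local rings the dimension takes all intermediate values. -/
theorem exists_between (hreg : ∀ x : X, IsRegularLocalRing (X.presheaf.stalk x)) {y x : X} (h : y ⤳ x) (n : ℕ)
    (hy : ringKrullDim (X.presheaf.stalk y) ≤ (n : WithBot ℕ∞))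
    (hx : (n : WithBot ℕ∞) ≤ ringKrullDim (X.presheaf.stalk x)) :
    ∃ z : X, y ⤳ z ∧ z ⤳ x ∧ ringKrullDim (X.presheaf.stalk z) = (n : WithBot ℕ∞) := by
  obtain ⟨W, hW, hxW, -⟩ := exists_isAffineOpen_mem_and_subset (X := X) (x := x) (U := ⊤) trivial
  have hyW : y ∈ W := h.mem_open W.2 hxW
  let A := Γ(X, W)
  let P := hW.primeIdealOf ⟨x, hxW⟩
  let Q := hW.primeIdealOf ⟨y, hyW⟩
  have hQP : Q ≤ P := by
    rw [PrimeSpectrum.le_iff_specializes]
    apply hW.fromSpec.isOpenEmbedding.isInducing.specializes_iff.1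
    rw [hW.fromSpec_primeIdealOf, hW.fromSpec_primeIdealOf]
    exact h
  letI : Algebra A (X.presheaf.stalk x) := TopCat.Presheaf.algebra_section_stalk X.presheaf ⟨x, hxW⟩
  haveI : IsLocalization.AtPrime (X.presheaf.stalk x) P.asIdeal := hW.isLocalization_stalk ⟨x, hxW⟩
  letI : Algebra A (X.presheaf.stalk y) := TopCat.Presheaf.algebra_section_stalk X.presheaf ⟨y, hyW⟩
  haveI : IsLocalization.AtPrime (X.presheaf.stalk y) Q.asIdeal := hW.isLocalization_stalk ⟨y, hyW⟩
  let R := X.presheaf.stalk x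
  haveI := hreg x
  have hdisj : Disjoint (P.asIdeal.primeCompl : Set A) (Q.asIdeal : Set A) :=
    Set.disjoint_left.2 fun a ha haQ => ha (hQP haQ)
  let q : PrimeSpectrum R := ⟨Q.asIdeal.map (algebraMap A R),
    IsLocalization.isPrime_of_isPrime_disjoint P.asIdeal.primeCompl R _ Q.2 hdisj⟩
  have hqQ : q.asIdeal.comap (algebraMap A R) = Q.asIdeal :=
    IsLocalization.under_map_of_isPrime_disjoint P.asIdeal.primeCompl R Q.2 hdisj
  have hqh : q.asIdeal.height ≤ n := by
    rw [← IsLocalization.height_under P.asIdeal.primeCompl q.asIdeal, show q.asIdeal.under A = Q.asIdeal from hqQ]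
    rw [IsLocalization.AtPrime.ringKrullDim_eq_height Q.asIdeal (X.presheaf.stalk y)] at hy
    exact WithBot.coe_le_coe.1 hy
  obtain ⟨t, hqt, ht⟩ := exists_prime_height q n hqh hx
  let T : PrimeSpectrum A := PrimeSpectrum.comap (algebraMap A R) t
  have hQT : Q ≤ T := hqQ.ge.trans (Ideal.comap_mono hqt)
  have hTP : T ≤ P := by
    intro a ha
    by_contra haP
    exact t.2.ne_top (Ideal.eq_top_of_isUnit_mem _ ha (IsLocalization.map_units R (⟨a, haP⟩ : P.asIdeal.primeCompl)))
  have hzW : hW.fromSpec T ∈ W := by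
    rw [← SetLike.mem_coe, ← hW.range_fromSpec]
    exact ⟨T, rfl⟩
  refine ⟨hW.fromSpec T, ?_, ?_, ?_⟩
  · exact (specializes_of_eq (hW.fromSpec_primeIdealOf ⟨y, hyW⟩).symm).trans
      (((PrimeSpectrum.le_iff_specializes _ _).1 hQT).map hW.fromSpec.continuous)
  · exact (((PrimeSpectrum.le_iff_specializes _ _).1 hTP).map hW.fromSpec.continuous).trans
      (specializes_of_eq (hW.fromSpec_primeIdealOf ⟨x, hxW⟩))
  · letI : Algebra A (X.presheaf.stalk (hW.fromSpec T)) := TopCat.Presheaf.algebra_section_stalk X.presheaf ⟨_, hzW⟩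
    haveI : IsLocalization.AtPrime (X.presheaf.stalk (hW.fromSpec T)) T.asIdeal := by
      have := hW.isLocalization_stalk ⟨_, hzW⟩
      rwa [hW.fromSpec.isOpenEmbedding.injective (hW.fromSpec_primeIdealOf _ : hW.fromSpec (hW.primeIdealOf ⟨_, hzW⟩) = hW.fromSpec T)] at this
    rw [IsLocalization.AtPrime.ringKrullDim_eq_height T.asIdeal,
      show T.asIdeal.height = t.asIdeal.height from IsLocalization.height_under P.asIdeal.primeCompl t.asIdeal, ht]
    rfl

theorem ringKrullDim_stalk_mono {y x : X} (h : y ⤳ x) :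
    ringKrullDim (X.presheaf.stalk y) ≤ ringKrullDim (X.presheaf.stalk x) := by
  obtain ⟨W, hW, hxW, -⟩ := exists_isAffineOpen_mem_and_subset (X := X) (x := x) (U := ⊤) trivial
  have hyW : y ∈ W := h.mem_open W.2 hxW
  letI : Algebra Γ(X, W) (X.presheaf.stalk x) := TopCat.Presheaf.algebra_section_stalk X.presheaf ⟨x, hxW⟩
  haveI := hW.isLocalization_stalk ⟨x, hxW⟩
  letI : Algebra Γ(X, W) (X.presheaf.stalk y) := TopCat.Presheaf.algebra_section_stalk X.presheaf ⟨y, hyW⟩
  haveI := hW.isLocalization_stalk ⟨y, hyW⟩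
  rw [IsLocalization.AtPrime.ringKrullDim_eq_height (hW.primeIdealOf ⟨y, hyW⟩).asIdeal (X.presheaf.stalk y),
    IsLocalization.AtPrime.ringKrullDim_eq_height (hW.primeIdealOf ⟨x, hxW⟩).asIdeal (X.presheaf.stalk x)]
  refine WithBot.coe_le_coe.2 (Ideal.height_mono ?_)
  refine (PrimeSpectrum.le_iff_specializes _ _).2 (hW.fromSpec.isOpenEmbedding.isInducing.specializes_iff.1 ?_)
  rw [hW.fromSpec_primeIdealOf, hW.fromSpec_primeIdealOf]
  exact h

/-- A subset of a closed set which is stable under specialisation together with its complement in it is closed. -/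
theorem isClosed_of_stable [IsLocallyNoetherian X] {Z S : Set X} (hZ : IsClosed Z) (hSZ : S ⊆ Z)
    (hS : ∀ a ∈ S, ∀ b, a ⤳ b → b ∈ S) (hSc : ∀ a ∈ Z, a ∉ S → ∀ b, a ⤳ b → b ∉ S) : IsClosed S := by
  rw [← isOpen_compl_iff, isOpen_iff_forall_mem_open]
  intro x hx
  by_cases hxZ : x ∈ Z
  swap
  · exact ⟨Zᶜ, fun a ha h => ha (hSZ h), hZ.isOpen_compl, hxZ⟩
  obtain ⟨V, hV, hxV, -⟩ := exists_isAffineOpen_mem_and_subset (X := X) (x := x) (U := ⊤) trivial
  haveI : IsNoetherianRing Γ(X, V) := IsLocallyNoetherian.component_noetherian ⟨V, hV⟩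
  haveI : NoetherianSpace V := (noetherianSpace_iff_of_homeomorph (Scheme.homeoOfIso hV.isoSpec)).2 (inferInstanceAs (NoetherianSpace (PrimeSpectrum Γ(X, V))))
  let ι' : V → X := Subtype.val
  obtain ⟨C, hCfin, -, hC, hCeq⟩ := NoetherianSpace.exists_finite_set_isClosed_irreducible
    (α := V) (hZ.preimage continuous_subtype_val : IsClosed (ι' ⁻¹' Z))
  let D : Set (Set X) := {c | ∃ c' ∈ C, c = closure (ι' '' c') ∧ x ∉ closure (ι' '' c')}
  have hDfin : D.Finite := (hCfin.image fun c' => closure (ι' '' c')).subset fun c ⟨c', hc', e, _⟩ => ⟨c', hc', e.symm⟩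
  have hD : IsClosed (⋃₀ D) := Set.sUnion_eq_biUnion ▸ hDfin.isClosed_biUnion (f := fun c => c) ?_
  swap
  · rintro _ ⟨c', -, rfl, -⟩
    exact isClosed_closure
  refine ⟨(V : Set X) \ ⋃₀ D, fun z hz hzS => ?_, V.2.sdiff hD, hxV, ?_⟩
  swap
  · rintro ⟨c, ⟨c', -, rfl, hc⟩, hxc⟩
    exact hc hxc
  have hzC : (⟨z, hz.1⟩ : V) ∈ ⋃₀ C := hCeq ▸ hSZ hzS
  obtain ⟨c', hc', hzc'⟩ := hzC
  have hxc : x ∈ closure (ι' '' c') := by
    by_contra h
    exact hz.2 ⟨_, ⟨c', hc', rfl, h⟩, subset_closure ⟨_, hzc', rfl⟩⟩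
  have hirr : IsIrreducible (closure (ι' '' c')) :=
    ((hC c' hc').image ι' continuous_subtype_val.continuousOn).closure
  let η := hirr.genericPoint
  have hη : IsGenericPoint η (closure (ι' '' c')) := by
    simpa only [closure_closure] using hirr.isGenericPoint_genericPoint_closure
  have hηZ : η ∈ Z := hZ.closure_subset_iff.2 (by
    rintro _ ⟨w, hw, rfl⟩
    exact (hCeq ▸ (⟨c', hc', hw⟩ : w ∈ ⋃₀ C) : w ∈ ι' ⁻¹' Z)) hη.mem
  by_cases hηS : η ∈ S
  · exact hx (hS η hηS x (hη.specializes hxc))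
  · exact hSc η hηZ hηS z (hη.specializes (subset_closure ⟨_, hzc', rfl⟩)) hzS

/-- Sections with supports, as an endofunctor of the modules on the scheme. -/
abbrev sectF (U : X.Opens) : X.Modules ⥤ X.Modules := ModSite.sectOn X.sheaf U

/-- Enlarging the supports. -/
def incl {U U' : X.Opens} (h : U' ≤ U) : sectF U ⟶ sectF U' where
  app N := kernel.lift _ ((ModSite.sectOnι X.sheaf U).app N) (sectOnι_shrink U' U h (𝟭 X.Modules) N)
  naturality {M N} f := by
    apply equalizer.hom_ext
    exact ((Category.assoc _ _ _).trans (congrArg (_ ≫ ·) (kernel.lift_ι _ _ _))).trans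
      (((ModSite.sectOnι X.sheaf U).naturality f).trans
        (((Category.assoc _ _ _).trans (congrArg (_ ≫ ·) (kernel.lift_ι _ _ _))).trans
          ((Category.assoc _ _ _).symm.trans (congrArg (· ≫ f) (kernel.lift_ι _ _ _)))).symm)

/-- The inclusion of the sections with supports. -/
def sι (U : X.Opens) (N : X.Modules) : (sectF U).obj N ⟶ N := (ModSite.sectOnι X.sheaf U).app N

theorem injective_stalk_sι (U : X.Opens) (N : X.Modules) (x : X) : Function.Injective (stalkLin (sι U N) x) :=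
  (mono_iff_stalk (sι U N)).1
    (inferInstanceAs (Mono (kernel.ι ((ModSite.restrPushOverAdj X.sheaf U).unit.app N)))) x

theorem subsingleton_stalk_sect (U : X.Opens) (N : X.Modules) {x : X} (hx : x ∈ U) :
    Subsingleton (((sectF U).obj N).presheaf.stalk x) :=
  ⟨fun a b => injective_stalk_sι U N x (by rw [show stalkLin (sι U N) x = 0 from stalkLin_sectOnι U N x hx]; rfl)⟩

/-- Where two opens locally have the same complement, the sections with supports agree. -/
theorem bijective_stalk_incl {U U' : X.Opens} (h : U' ≤ U) (N : X.Modules) {x : X} {O : X.Opens} (hxO : x ∈ O)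
    (hO : ∀ y ∈ O, y ∈ U → y ∈ U') : Function.Bijective (stalkLin ((incl h).app N) x) := by
  have hcomp : (incl h).app N ≫ sι U' N = sι U N := kernel.lift_ι _ _ _
  have hc : ∀ a, stalkLin (sι U' N) x (stalkLin ((incl h).app N) x a) = stalkLin (sι U N) x a := fun a => by
    rw [← LinearMap.comp_apply, ← stalkLin_comp, hcomp]
  refine ⟨fun a b hab => injective_stalk_sι U N x (by rw [← hc, ← hc, hab]), fun b => ?_⟩
  let u := (Scheme.Modules.restrictAdjunction U.ι).unit.app N
  obtain ⟨W, hxW, t, rfl⟩ := TopCat.Presheaf.exists_germ_eq ((sectF U').obj N).presheaf b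
  let W' : X.Opens := W ⊓ O
  let t' := ((sectF U').obj N).presheaf.map (homOfLE (inf_le_left : W' ≤ W)).op t
  let s' := (sι U' N).app W' t'
  have hz : u.app W' s' = 0 := by
    show N.presheaf.map (homOfLE (U.ι.image_preimage_le W')).op s' = 0
    refine TopCat.Presheaf.section_ext ⟨N.presheaf, N.isSheaf⟩ _ _ _ fun y hy => ?_
    rw [map_zero]
    have hyW : y ∈ W' ∧ y ∈ U := by
      obtain ⟨z, hz, rfl⟩ := hy
      exact ⟨hz, z.2⟩
    refine (StalkHomLib.germ_res N (U.ι.image_preimage_le W') y hy s').trans ?_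
    rw [← stalkLin_germ (sι U' N) y hyW.1 t',
      show stalkLin (sι U' N) y = 0 from stalkLin_sectOnι U' N y (hO y hyW.1.2 hyW.2)]
    rfl
  have hx' : x ∈ W' := ⟨hxW, hxO⟩
  have hz' : stalkLin u x (N.presheaf.germ W' x hx' s') = 0 :=
    (stalkLin_germ u x hx' s').trans ((congrArg _ hz).trans (map_zero _))
  obtain ⟨c, hc'⟩ := (ShortComplex.moduleCat_exact_iff _).1
    ((ShortComplex.exact_of_f_is_kernel (ShortComplex.mk (kernel.ι u) u (kernel.condition u)) (kernelIsKernel u)).map (stkF x))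
    (N.presheaf.germ W' x hx' s') hz'
  refine ⟨stalkLin ((sectGammaIso U).inv.app N) x c, injective_stalk_sι U' N x ?_⟩
  rw [hc, ← LinearMap.comp_apply, ← stalkLin_comp,
    show (sectGammaIso U).inv.app N ≫ sι U N = kernel.ι u from kernel.lift_ι _ _ _]
  refine hc'.trans ?_
  rw [← StalkHomLib.germ_res ((sectF U').obj N) (inf_le_left : W' ≤ W) x hx' t]
  exact (stalkLin_germ (sι U' N) x hx' t').symm

/-- A derived functor of sections with supports in a disjoint union vanishes when both parts do. -/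
theorem isZero_of_split {C : Type (u + 1)} [Category.{u} C] [Abelian C] [HasInjectiveResolutions C]
    (H : C ⥤ X.Modules) [H.Additive] {U U₁ U₂ : X.Opens} (h₁ : U ≤ U₁) (h₂ : U ≤ U₂)
    (hsplit : ∀ x : X, x ∉ U → (x ∈ U₁ ↔ x ∉ U₂)) [(sectF U).Additive] [(sectF U₁).Additive] [(sectF U₂).Additive]
    (G : C) (i : ℕ) (hz₁ : IsZero (((H ⋙ sectF U₁).rightDerived i).obj G))
    (hz₂ : IsZero (((H ⋙ sectF U₂).rightDerived i).obj G)) :
    IsZero (((H ⋙ sectF U).rightDerived i).obj G) := by
  let K := injectiveResolution G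
  let φ₁ := (NatTrans.mapHomologicalComplex (Functor.whiskerLeft H (incl h₁)) (ComplexShape.up ℕ)).app K.cocomplex
  let φ₂ := (NatTrans.mapHomologicalComplex (Functor.whiskerLeft H (incl h₂)) (ComplexShape.up ℕ)).app K.cocomplex
  haveI hm : ∀ m, Mono (φ₁.f m) := fun m => by
    haveI : Mono ((incl h₁).app (H.obj (K.cocomplex.X m)) ≫ sι U (H.obj (K.cocomplex.X m))) := by
      rw [show (incl h₁).app (H.obj (K.cocomplex.X m)) ≫ sι U _ = sι U₁ _ from kernel.lift_ι _ _ _]
      exact inferInstanceAs (Mono (kernel.ι _))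
    exact mono_of_mono ((incl h₁).app (H.obj (K.cocomplex.X m))) (sι U _)
  haveI : Mono φ₁ := HomologicalComplex.mono_of_mono_f φ₁ hm
  let s := ShortComplex.mk φ₁ (cokernel.π φ₁) (cokernel.condition φ₁)
  have hs : s.ShortExact :=
    { exact := ShortComplex.exact_of_g_is_cokernel _ (cokernelIsCokernel φ₁)
      mono_f := inferInstanceAs (Mono φ₁)
      epi_g := inferInstanceAs (Epi (cokernel.π φ₁)) }
  have hiso : ∀ m, IsIso ((φ₂ ≫ cokernel.π φ₁).f m) := fun m => by
    refine (isIso_iff_stalk _).2 fun x => ?_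
    let N := H.obj (K.cocomplex.X m)
    have hsx := ((hs.map_of_exact (HomologicalComplex.eval X.Modules (ComplexShape.up ℕ) m)).map_of_exact (stkF x))
    let f : ((sectF U₁).obj N).presheaf.stalk x →ₗ[X.presheaf.stalk x] ((sectF U).obj N).presheaf.stalk x :=
      stalkLin ((incl h₁).app N) x
    let g := stalkLin ((cokernel.π φ₁).f m) x
    have hg : Function.Surjective g := hsx.moduleCat_surjective_g
    have hfg : ∀ z, g z = 0 → ∃ a, f a = z := (ShortComplex.moduleCat_exact_iff _).1 hsx.exact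
    have hgf : ∀ a, g (f a) = 0 := fun a =>
      ConcreteCategory.congr_hom ((s.map (HomologicalComplex.eval X.Modules (ComplexShape.up ℕ) m)).map (stkF x)).zero a
    rw [HomologicalComplex.comp_f, stalkLin_comp, LinearMap.coe_comp]
    show Function.Bijective (g ∘ stalkLin ((incl h₂).app N) x)
    have h2z : x ∈ U₂ → Subsingleton (((sectF U₂).obj N).presheaf.stalk x) := subsingleton_stalk_sect U₂ N
    by_cases hxU : x ∈ U
    · haveI := subsingleton_stalk_sect U N hxU
      haveI := h2z (h₂ hxU)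
      exact ⟨fun a b _ => Subsingleton.elim a b, fun y => ⟨0, by
        obtain ⟨z, rfl⟩ := hg y
        exact congrArg g ((subsingleton_stalk_sect U N hxU).elim _ _)⟩⟩
    by_cases hx₂ : x ∈ U₂
    · haveI := h2z hx₂
      have hsur : Function.Surjective f := (bijective_stalk_incl h₁ N hx₂ fun y hy hy₁ =>
        by_contra fun hyU => ((hsplit y hyU).1 hy₁) hy).2
      exact ⟨fun a b _ => Subsingleton.elim a b, fun y => ⟨0, by
        obtain ⟨z, rfl⟩ := hg y
        obtain ⟨a, rfl⟩ := hsur z
        show g (stalkLin ((incl h₂).app N) x 0) = g (f a)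
        rw [hgf, map_zero, map_zero]⟩⟩
    · have hx₁ : x ∈ U₁ := (hsplit x hxU).2 hx₂
      haveI := subsingleton_stalk_sect U₁ N hx₁
      refine Function.Bijective.comp ⟨(injective_iff_map_eq_zero g).2 fun z hz => ?_, hg⟩
        (bijective_stalk_incl h₂ N hx₁ fun y hy hy₂ => by_contra fun hyU => ((hsplit y hyU).1 hy) hy₂)
      obtain ⟨a, rfl⟩ := hfg z hz
      rw [Subsingleton.elim a 0, map_zero]
  haveI := hiso
  haveI : IsIso (φ₂ ≫ cokernel.π φ₁) := HomologicalComplex.Hom.isIso_of_components _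
  refine IsZero.of_iso ?_ (K.isoRightDerivedObj (H ⋙ sectF U) i)
  refine (hs.homology_exact₂ i).isZero_of_both_zeros ((hz₁.of_iso (K.isoRightDerivedObj _ i).symm).eq_of_src _ _) ?_
  exact ((hz₂.of_iso (K.isoRightDerivedObj _ i).symm).of_iso
    (asIso (HomologicalComplex.homologyMap (φ₂ ≫ cokernel.π φ₁) i)).symm).eq_of_tgt _ _

end Groth.Agent.ExtShLib
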