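import Groth.Agent.ExtShLib.Local
import Groth.Agent.ExtShLib.SerreAbut
import Groth.Agent.SiteBase.OpenQuot
import Groth.Agent.SpSeqLib.Grothendieck
import Groth.Agent.LocZLib.GammaQCoh
import Groth.Agent.DCohLib.QCohAbelian

/-!
# Sections with support on the site of opens and on schemes
-/

set_option autoImplicit false
set_option backward.isDefEq.respectTransparency false
set_option linter.style.haveILetI false
universe u v v' w w'

open CategoryTheory Limits Opposite TopologicalSpace AlgebraicGeometry

noncomputable section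

namespace Groth.Agent.ExtShLib

theorem comp_unit_eq_zero_iff {C : Type w} [Category.{v} C] [Preadditive C] {D : Type w'} [Category.{v'} D]
    [Preadditive D] {L : C ⥤ D} {R : D ⥤ C} (adj : L ⊣ R) [R.Additive] {A F : C} (φ : A ⟶ F) :
    φ ≫ adj.unit.app F = 0 ↔ L.map φ = 0 := by
  have h : φ ≫ adj.unit.app F = adj.homEquiv A (L.obj F) (L.map φ) := by
    rw [Adjunction.homEquiv_unit]
    exact adj.unit.naturality φ
  rw [h]
  have h0 : adj.homEquiv A (L.obj F) 0 = 0 := by
    rw [Adjunction.homEquiv_unit, R.map_zero, comp_zero]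
  exact ⟨fun e => (adj.homEquiv A (L.obj F)).injective (e.trans h0.symm), fun e => by rw [e, h0]⟩

variable {X : Scheme.{u}} (U : X.Opens)

theorem restr_map_eq_zero_iff {A F : X.Modules} (φ : A ⟶ F) :
    (ModSite.restr X.sheaf U).map φ = 0 ↔ (Scheme.Modules.restrictFunctor U.ι).map φ = 0 := by
  let e := Scheme.Modules.overFunctorEquiv U
  have hnat := e.hom.naturality φ
  constructor
  · intro h
    rw [← cancel_epi (e.hom.app A), ← hnat, comp_zero]
    show (Scheme.Modules.overEquiv U).functor.map ((ModSite.restr X.sheaf U).map φ) ≫ _ = 0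
    rw [h, Functor.map_zero, zero_comp]
  · intro h
    apply (Scheme.Modules.overEquiv U).functor.map_injective
    rw [Functor.map_zero, ← cancel_mono (e.hom.app F), zero_comp]
    exact hnat.trans (by rw [h, comp_zero])

instance : (Scheme.Modules.pushforward U.ι).Additive :=
  (Scheme.Modules.restrictAdjunction U.ι).right_adjoint_additive

theorem sectOnι_unit (F : X.Modules) :
    (ModSite.sectOnι X.sheaf U).app F ≫ (Scheme.Modules.restrictAdjunction U.ι).unit.app F = 0 := by
  haveI := (ModSite.restrPushOverAdj X.sheaf U).right_adjoint_additive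
  let φ : (ModSite.sectOn X.sheaf U : X.Modules ⥤ X.Modules).obj F ⟶ F := (ModSite.sectOnι X.sheaf U).app F
  exact (comp_unit_eq_zero_iff (Scheme.Modules.restrictAdjunction U.ι) φ).2 ((restr_map_eq_zero_iff U _).1
    ((comp_unit_eq_zero_iff (ModSite.restrPushOverAdj X.sheaf U) ((ModSite.sectOnι X.sheaf U).app F)).1
      (kernel.condition _)))

theorem gammaZι_unit (F : X.Modules) :
    kernel.ι ((Scheme.Modules.restrictAdjunction U.ι).unit.app F) ≫
      (ModSite.restrPushOverAdj X.sheaf U).unit.app F = 0 := by
  haveI := (ModSite.restrPushOverAdj X.sheaf U).right_adjoint_additive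
  exact (comp_unit_eq_zero_iff _ _).2 ((restr_map_eq_zero_iff U _).2
    ((comp_unit_eq_zero_iff (Scheme.Modules.restrictAdjunction U.ι) _).1 (kernel.condition _)))

/-- The two functors of sections with support agree. -/
def sectGammaIso : (ModSite.sectOn X.sheaf U : X.Modules ⥤ X.Modules) ≅ DCoh.gammaZ U.ι :=
  NatIso.ofComponents
    (fun F =>
      { hom := kernel.lift _ ((ModSite.sectOnι X.sheaf U).app F) (sectOnι_unit U F)
        inv := kernel.lift _ (kernel.ι _) (gammaZι_unit U F)
        hom_inv_id := by
          apply equalizer.hom_ext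
          exact (Category.assoc _ _ _).trans ((congrArg (_ ≫ ·) (kernel.lift_ι _ _ _)).trans
            ((kernel.lift_ι _ _ _).trans (Category.id_comp _).symm))
        inv_hom_id := by
          apply equalizer.hom_ext
          exact (Category.assoc _ _ _).trans ((congrArg (_ ≫ ·) (kernel.lift_ι _ _ _)).trans
            ((kernel.lift_ι _ _ _).trans (Category.id_comp _).symm)) })
    fun {F G} f => by
      apply equalizer.hom_ext
      exact ((Category.assoc _ _ _).trans (congrArg (_ ≫ ·) (kernel.lift_ι _ _ _))).trans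
        (((ModSite.sectOnι X.sheaf U).naturality f).trans
          (((Category.assoc _ _ _).trans (congrArg (_ ≫ ·) (kernel.lift_ι _ _ _))).trans
            ((Category.assoc _ _ _).symm.trans (congrArg (· ≫ f) (kernel.lift_ι _ _ _)))).symm)

theorem isWeakSerre_isQCoh : IsWeakSerre (fun M : X.Modules => Coh.IsQCoh M) where
  iso e h := DCohLib.isQCoh_of_iso' e h
  zero h := DCohLib.isQCoh_of_isZero' h
  ker f hA hB := (QCohLib.isQCoh_image f hA hB).1
  coker f hA hB := (QCohLib.isQCoh_image f hA hB).2
  ext hS h1 h3 := QCohLib.isQCoh_X₂ hS h1 h3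

theorem isQCoh_HZsh [IsLocallyNoetherian X] [HasInjectiveResolutions (ModSite.Mod X.sheaf)]
    (G : X.Modules) (hG : Coh.IsQCoh G) (q : ℕ) :
    Coh.IsQCoh (((ModSite.sectOn X.sheaf U : X.Modules ⥤ X.Modules).rightDerived q).obj G) := by
  haveI : HasInjectiveResolutions X.Modules := ‹HasInjectiveResolutions (ModSite.Mod X.sheaf)›
  haveI : EnoughInjectives (U : Scheme.{u}).Modules := SiteBase.enoughInjectives_sheafOfModules _
  haveI : HasInjectiveResolutions (U : Scheme.{u}).Modules := inferInstance
  haveI : (ModSite.sectOn X.sheaf U : X.Modules ⥤ X.Modules).Additive := ModSite.sectOn_additive X.sheaf U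
  haveI : (DCoh.gammaZ U.ι).Additive := Functor.additive_of_iso (sectGammaIso U)
  exact DCohLib.isQCoh_of_iso' ((SpSeqLib.rightDerivedCongr (sectGammaIso U) q).app G).symm
    (LocZLib.GammaQCoh.isQCoh_HZshM U.ι G hG q)

end Groth.Agent.ExtShLib
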