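import Groth.Agent.ExtShLib.GammaAb
import Groth.Agent.ExtShLib.SerreAbut
import Groth.Agent.SiteBase.SuppAcyclic
import Groth.Agent.SiteBase.FlatCech
import Groth.Agent.RegLocal.GlobalDim
import Groth.Agent.RegLocal.Consequences
import Groth.Agent.LocZLib.Basis
import Groth.Agent.S11625

/-!
# Ext sheaves with supports above the dimension
-/

set_option autoImplicit false
set_option backward.isDefEq.respectTransparency false
set_option linter.style.haveILetI false
universe u

open CategoryTheory Limits Opposite TopologicalSpace AlgebraicGeometry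

noncomputable section

namespace Groth.Agent.ExtShLib

/-- A module living in height at least `q` has dimension at most the dimension minus `q`. -/
theorem supportDim_lt_of_height {R M : Type u} [CommRing R] [AddCommGroup M] [Module R M] (p q : ℕ)
    (hd : ringKrullDim R < ((p + q : ℕ) : WithBot ℕ∞))
    (h : ∀ P ∈ Module.support R M, (q : ℕ∞) ≤ P.asIdeal.height) :
    Module.supportDim R M < (p : WithBot ℕ∞) := by
  by_contra hc
  rw [not_lt, Module.supportDim, Order.le_krullDim_iff] at hc
  obtain ⟨l, hl⟩ := hc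
  let l' : LTSeries (PrimeSpectrum R) := l.map Subtype.val fun _ _ h => h
  have hq : (q : ℕ∞) ≤ Order.height l'.head := by
    rw [← PrimeSpectrum.height_eq_orderHeight]
    exact h _ l.head.2
  obtain ⟨m, hm1, hm2⟩ := Order.exists_series_of_le_height l'.head hq
  have := Order.LTSeries.length_le_krullDim (RelSeries.smash m l' hm1)
  rw [RelSeries.smash_length, hm2, show l'.length = p from hl, add_comm] at this
  exact absurd this (not_le.2 hd)

variable {X : Scheme.{u}} [IsLocallyNoetherian X]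

theorem subsingleton_HZ_of_height (U : X.Opens) (M : X.Modules) (hM : Coh.IsCoh M) (p q : ℕ)
    (hp : ∀ x : X, x ∉ (U : Set X) → ¬ Subsingleton (M.presheaf.stalk x) →
      ringKrullDim (X.presheaf.stalk x) < ((p + q : ℕ) : WithBot ℕ∞))
    (hq : ∀ y : X, ¬ Subsingleton (M.presheaf.stalk y) →
      ((q : ℕ∞) : WithBot ℕ∞) ≤ ringKrullDim (X.presheaf.stalk y))
    {V : X.Opens} (hV : IsAffineOpen V) :
    Subsingleton (LocCohZ.HZ (X := X.carrier) (Coh.toAb M) p (inf_le_left : V ⊓ U ≤ V)) := by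
  haveI := hM.1
  have hWV : V.ι ''ᵁ ⊤ = V := V.ι_image_top
  have hW : IsAffineOpen (V.ι ''ᵁ ⊤) := by rw [hWV]; exact hV
  haveI : IsNoetherianRing Γ(X, V.ι ''ᵁ ⊤) := IsLocallyNoetherian.component_noetherian ⟨_, hW⟩
  obtain ⟨I, key, hmem⟩ := LocZLib.exists_ideal_subsingleton_HZ_iff U M hM hV hW
  rw [key p]
  let A := Γ(X, V.ι ''ᵁ ⊤)
  let N := Γ(M, V.ι ''ᵁ ⊤)
  have hxW : ∀ Q : PrimeSpectrum A, hW.fromSpec Q ∈ V.ι ''ᵁ ⊤ := fun Q => by
    rw [← SetLike.mem_coe, ← hW.range_fromSpec]
    exact ⟨Q, rfl⟩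
  have hQ' : ∀ Q : PrimeSpectrum A, hW.primeIdealOf ⟨hW.fromSpec Q, hxW Q⟩ = Q := fun Q =>
    hW.fromSpec.isOpenEmbedding.injective (hW.fromSpec_primeIdealOf _)
  have hdim : ∀ Q : PrimeSpectrum A, ringKrullDim (X.presheaf.stalk (hW.fromSpec Q)) = Q.asIdeal.height := fun Q => by
    letI : Algebra A (X.presheaf.stalk (hW.fromSpec Q)) := TopCat.Presheaf.algebra_section_stalk X.presheaf ⟨_, hxW Q⟩
    haveI : IsLocalization.AtPrime (X.presheaf.stalk (hW.fromSpec Q)) Q.asIdeal := by
      have := hW.isLocalization_stalk ⟨_, hxW Q⟩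
      rwa [hQ'] at this
    exact IsLocalization.AtPrime.ringKrullDim_eq_height _ _
  have hstalk : ∀ (Q : PrimeSpectrum A) (n : N), (∀ a ∉ Q.asIdeal, a • n ≠ 0) →
      ¬ Subsingleton (M.presheaf.stalk (hW.fromSpec Q)) := fun Q n hn hs => by
    letI : Algebra A (X.presheaf.stalk (hW.fromSpec Q)) := TopCat.Presheaf.algebra_section_stalk X.presheaf ⟨_, hxW Q⟩
    letI := Module.compHom (M.presheaf.stalk (hW.fromSpec Q)) (X.presheaf.germ _ _ (hxW Q)).hom
    haveI := FlatLocus.isLocalizedModule_germL M hW _ (hxW Q)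
    obtain ⟨⟨a, ha⟩, hac⟩ := (IsLocalizedModule.eq_zero_iff (hW.primeIdealOf ⟨_, hxW Q⟩).asIdeal.primeCompl
      (FlatLocus.germL M (V.ι ''ᵁ ⊤) (hW.fromSpec Q) (hxW Q))).1 (Subsingleton.elim (FlatLocus.germL M _ _ (hxW Q) n) 0)
    exact hn a (fun h => ha (by rw [hQ' Q]; exact h)) hac
  refine LocCohLib.subsingleton_of_forall_local N p I fun P hP => ?_
  haveI := IsLocalization.isNoetherianRing P.asIdeal.primeCompl (Localization.AtPrime P.asIdeal) inferInstance
  refine S11625.result _ _ (LocalizedModule P.asIdeal.primeCompl N) p ?_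
  rcases subsingleton_or_nontrivial (LocalizedModule P.asIdeal.primeCompl N) with h0 | h0
  · rw [Module.supportDim_eq_bot_of_subsingleton]
    exact WithBot.bot_lt_coe _
  refine supportDim_lt_of_height p q ?_ fun P' hP' => ?_
  · obtain ⟨z, hz⟩ := exists_ne (0 : LocalizedModule P.asIdeal.primeCompl N)
    induction z using LocalizedModule.induction_on with
    | _ n s =>
      have hn : ∀ a ∉ P.asIdeal, a • n ≠ 0 := fun a ha h => hz (by
        rw [← LocalizedModule.zero_mk s, LocalizedModule.mk_eq]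
        exact ⟨⟨a, ha⟩, by
          simp only [Submonoid.smul_def, smul_zero]
          rw [smul_comm, h, smul_zero]⟩)
      have hd := hp _ ((hmem _ (hxW P)).2 (by rw [hQ']; exact hP)) (hstalk P n hn)
      rwa [hdim P, ← IsLocalization.AtPrime.ringKrullDim_eq_height P.asIdeal (Localization.AtPrime P.asIdeal)] at hd
  · rw [Module.mem_support_iff'] at hP'
    obtain ⟨z, hz⟩ := hP'
    induction z using LocalizedModule.induction_on with
    | _ n s =>
      let Q : PrimeSpectrum A := PrimeSpectrum.comap (algebraMap A (Localization.AtPrime P.asIdeal)) P'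
      have hn : ∀ a ∉ Q.asIdeal, a • n ≠ 0 := fun a ha h => hz (algebraMap A (Localization.AtPrime P.asIdeal) a) ha (by
        rw [algebraMap_smul, LocalizedModule.smul'_mk, h, LocalizedModule.zero_mk])
      have h' := hq _ (hstalk Q n hn)
      rw [hdim Q, WithBot.coe_le_coe] at h'
      rw [← IsLocalization.height_under P.asIdeal.primeCompl P'.asIdeal]
      exact h'

variable (F G : X.Modules) [ModSite.HasSheafHom (O := X.sheaf) F] [HasInjectiveResolutions (ModSite.Mod X.sheaf)]

theorem subsingleton_stalk_extS (hF : Coh.IsCoh F) (x : X) (q : ℕ)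
    (hreg : IsRegularLocalRing (X.presheaf.stalk x))
    (h : ringKrullDim (X.presheaf.stalk x) < ((q : ℕ∞) : WithBot ℕ∞) ∨ Subsingleton (F.presheaf.stalk x)) :
    Subsingleton ((ExtVanLib.extS F G q).presheaf.stalk x) := by
  obtain ⟨e⟩ := ExtVanLib.stalk_extSh_equiv F hF G x q
  rw [e.subsingleton_congr]
  rcases h with h | h
  · obtain ⟨d, hd⟩ := RegLocal.exists_nat_ringKrullDim (X.presheaf.stalk x)
    haveI := RegLocal.hasProjectiveDimensionLT (X.presheaf.stalk x) d hd
      (ModuleCat.of (X.presheaf.stalk x) (F.presheaf.stalk x))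
    rw [hd] at h
    exact HasProjectiveDimensionLT.subsingleton _ (d + 1) q (by
      have : d < q := by exact_mod_cast h
      omega) _
  · haveI : HasProjectiveDimensionLT (ModuleCat.of (X.presheaf.stalk x) (F.presheaf.stalk x)) 0 :=
      (ModuleCat.isZero_of_subsingleton _).hasProjectiveDimensionLT_zero
    exact HasProjectiveDimensionLT.subsingleton _ 0 q (Nat.zero_le _) _

/-- Ext sheaves with supports vanish above the dimension. -/
theorem isZero_extZSh_of_dim (hreg : ∀ x : X, IsRegularLocalRing (X.presheaf.stalk x)) (U : X.Opens)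
    (hF : Coh.IsCoh F) (hG : Coh.IsCoh G) (i : ℕ)
    (hi : ∀ x ∈ CohB1.support F, x ∉ (U : Set X) → ringKrullDim (X.presheaf.stalk x) < (i : WithBot ℕ∞)) :
    IsZero ((ModSite.extZSh (O := X.sheaf) U F i).obj G) := by
  haveI : EnoughInjectives (ModSite.Mod X.sheaf) := SiteBase.enoughInjectives_sheafOfModules _
  let T := ModSite.sheafHom (O := X.sheaf) F
  let S := ModSite.sectOn X.sheaf U
  haveI : S.IsRightAdjoint := (SiteBase.OpenQuot.quotSectAdj X.sheaf U).isRightAdjoint
  haveI : PreservesFiniteLimits S := inferInstance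
  have hT : ∀ I : ModSite.Mod X.sheaf, Injective I → SpSeqLib.IsAcyclicFor S (T.obj I) := fun I hI =>
    haveI := hI
    SiteBase.OpenQuot.isAcyclicFor_sectOn (O := X.sheaf) U (SiteBase.isTotallyAcyclic_sheafHom F I)
  obtain ⟨Z₀, hZ₀⟩ := HasZeroObject.zero (C := ModSite.Mod X.sheaf)
  let H : ℤ → ModSite.Mod X.sheaf := fun n => if 0 ≤ n then ((T ⋙ S).rightDerived n.toNat).obj G else Z₀
  let P : ℤ → ℤ → ModSite.Mod X.sheaf := fun p q => if 0 ≤ p ∧ 0 ≤ q then
    (S.rightDerived p.toNat).obj ((T.rightDerived q.toNat).obj G) else Z₀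
  obtain ⟨E, a, ha, -, hP⟩ := SpSeqLib.exists_grothendieck T S hT G (H := H) (P := P)
    (fun n => ⟨eqToIso (by simp [H])⟩) (fun n hn => by
      simp only [H]; rw [if_neg (by omega)]; exact hZ₀)
    (fun p q => ⟨eqToIso (by simp [P])⟩) (fun p q h => by
      simp only [P]; rw [if_neg (by omega)]; exact hZ₀)
  have h0 := isZero_abutment a (i : ℤ) (ha _) fun p => by
    refine IsZero.of_iso ?_ (hP p ((i : ℤ) - p)).some
    by_cases hpq : 0 ≤ p ∧ 0 ≤ (i : ℤ) - p
    · simp only [P, if_pos hpq]
      obtain ⟨p, rfl⟩ := Int.eq_ofNat_of_zero_le hpq.1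
      obtain ⟨q, rfl⟩ : ∃ q, i = p + q := ⟨i - p, by omega⟩
      rw [show ((↑(p + q) : ℤ) - (p : ℤ)).toNat = q by omega, Int.toNat_natCast]
      refine isZero_HZsh_of_ab U (ExtVanLib.extS F G q) p ?_
      have hM : Coh.IsCoh (ExtVanLib.extS F G q) := isCoh_extS F hF G hG q
      have hs : ∀ V : X.Opens, IsAffineOpen V →
          Subsingleton (LocCohZ.HZ (X := X.carrier) (Coh.toAb (ExtVanLib.extS F G q)) p (inf_le_left : V ⊓ U ≤ V)) :=
        fun V hV => subsingleton_HZ_of_height U _ hM p q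
          (fun x hxU hx => hi x (fun h => hx (subsingleton_stalk_extS F G hF x q (hreg x) (Or.inr h))) hxU)
          (fun y hy => not_lt.1 fun h => hy (subsingleton_stalk_extS F G hF y q (hreg y) (Or.inl h))) hV
      cases p with
      | zero => exact LocZLib.isZero_HZsh_zero_of_basis (X := X.carrier) X.isBasis_affineOpens _ hs
      | succ p => exact LocZLib.isZero_HZsh_succ_of_basis (X := X.carrier) X.isBasis_affineOpens _ p hs
    · simp only [P, if_neg hpq]
      exact hZ₀
  simp only [H, if_pos (Int.natCast_nonneg i), Int.toNat_natCast] at h0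
  exact h0

end Groth.Agent.ExtShLib
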